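import Cfsg.Agent.Fusion.NormalExtension
import Cfsg.Agent.Fusion.SolvableSystem

/-!
A central quotient read through functions: lifts, kernels of the action on the quotient, and the
commutation of these kernels with the automorphisms of a normal subsystem of the quotient.
-/

set_option autoImplicit false
set_option linter.style.haveILetI false
set_option linter.unusedSectionVars false

open Cfsg Cfsg.FusionSystem CfsgLib.Fusion CfsgLib.FocCent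

namespace CfsgLib.CentLift

variable {Ω : Type*} [Group Ω] {S Z : Subgroup Ω} {Ω' : Type*} [Group Ω'] {S' T' : Subgroup Ω'}
  {θ : S →* Ω'} {F : FusionSystem S} {Fb : FusionSystem S'} {E : FusionSystem T'} {p : ℕ}

/-- `θ` extended by `1` outside `S`. -/
noncomputable def q (θ : S →* Ω') (x : Ω) : Ω' := by
  classical exact if h : x ∈ S then θ ⟨x, h⟩ else 1

theorem q_of_mem {x : Ω} (h : x ∈ S) : q θ x = θ ⟨x, h⟩ := dif_pos h

theorem q_coe (x : S) : q θ x = θ x := q_of_mem x.2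

theorem q_one : q θ (1 : Ω) = 1 := (q_of_mem S.one_mem).trans (map_one θ)

theorem q_mul {x y : Ω} (hx : x ∈ S) (hy : y ∈ S) : q θ (x * y) = q θ x * q θ y := by
  rw [q_of_mem hx, q_of_mem hy, q_of_mem (mul_mem hx hy), ← map_mul]
  rfl

theorem q_inv {x : Ω} (hx : x ∈ S) : q θ x⁻¹ = (q θ x)⁻¹ := by
  rw [q_of_mem hx, q_of_mem (inv_mem hx), ← map_inv]
  rfl

theorem q_conj {g x : Ω} (hg : g ∈ S) (hx : x ∈ S) :
    q θ (g * x * g⁻¹) = q θ g * q θ x * (q θ g)⁻¹ := by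
  rw [q_mul (mul_mem hg hx) (inv_mem hg), q_mul hg hx, q_inv hg]

theorem mem_preimg_q {U : Subgroup Ω'} {x : Ω} : x ∈ preimg θ U ↔ x ∈ S ∧ q θ x ∈ U := by
  rw [mem_preimg]
  constructor
  · rintro ⟨h, h'⟩
    exact ⟨h, by rwa [q_of_mem h]⟩
  · rintro ⟨h, h'⟩
    exact ⟨h, by rwa [q_of_mem h] at h'⟩

theorem mem_img_q {P : Subgroup Ω} (hP : P ≤ S) {y : Ω'} :
    y ∈ img θ P ↔ ∃ x ∈ P, q θ x = y := by
  constructor
  · rintro ⟨x, hx, rfl⟩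
    exact ⟨x, hx, q_coe x⟩
  · rintro ⟨x, hx, rfl⟩
    rw [q_of_mem (hP hx)]
    exact apply_mem_img hx

theorem q_mem_img {P : Subgroup Ω} (hP : P ≤ S) {x : Ω} (hx : x ∈ P) : q θ x ∈ img θ P :=
  (mem_img_q hP).2 ⟨x, hx, rfl⟩

/-- `f'` is induced by `f` on `P`. -/
def Rel (θ : S →* Ω') (P : Subgroup Ω) (f : Ω → Ω) (f' : Ω' → Ω') : Prop :=
  ∀ x ∈ P, q θ (f x) = f' (q θ x)

theorem Rel.mono {P W : Subgroup Ω} {f : Ω → Ω} {f' : Ω' → Ω'} (h : Rel θ P f f') (hW : W ≤ P) :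
    Rel θ W f f' := fun x hx => h x (hW hx)

theorem Rel.comp {P Q : Subgroup Ω} {f g : Ω → Ω} {f' g' : Ω' → Ω'} (h : Rel θ P f f')
    (h' : Rel θ Q g g') (hm : ∀ x ∈ P, f x ∈ Q) : Rel θ P (g ∘ f) (g' ∘ f') := fun x hx => by
  show q θ (g (f x)) = g' (f' (q θ x))
  rw [h' _ (hm x hx), h x hx]

/-- The data: a central subgroup, the factor system, and a normal subsystem of it. -/
structure Setup (p : ℕ) (F : FusionSystem S) (Z : Subgroup Ω) (θ : S →* Ω')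
    (Fb : FusionSystem S') (E : FusionSystem T') : Prop where
  hS : IsPGroup p S
  hF : F.IsSaturated p
  cen : F.IsCentral Z
  fac : F.IsFactorSystem Z θ Fb
  nml : E.IsNormalIn Fb p

namespace Setup

variable [Finite S] [Fact p.Prime] (h : Setup p F Z θ Fb E)
include h

theorem ZS : Z ≤ S := h.cen.1

theorem stronglyClosed_Z : F.StronglyClosed Z :=
  stronglyClosed_of_isNormal (isNormal_of_isCentral h.cen)

theorem finS' : Finite S' := finite_factor h.fac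

theorem pS' : IsPGroup p S' := isPGroup_factor h.fac p h.hS

theorem hFb : Fb.IsSaturated p := h.nml.1.2.1

theorem inv : E.IsInvariantIn Fb := h.nml.1.2.2

theorem hTc : Fb.StronglyClosed T' := h.inv.2.1

theorem TS' : T' ≤ S' := h.hTc.1

theorem finT' : Finite T' := by
  haveI := h.finS'
  exact finite_of_le h.TS'

theorem pT' : IsPGroup p T' := isPGroup_of_le h.pS' h.TS'

theorem q_mem {x : Ω} (hx : x ∈ S) : q θ x ∈ S' := by
  rw [q_of_mem hx]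
  exact h.fac.2.2.1.le ⟨_, rfl⟩

theorem q_eq_one {x : Ω} (hx : x ∈ S) : q θ x = 1 ↔ x ∈ Z := by
  rw [q_of_mem hx]
  exact h.fac.2.1 _

theorem q_eq {x y : Ω} (hx : x ∈ S) (hy : y ∈ S) : q θ x = q θ y ↔ x⁻¹ * y ∈ Z := by
  rw [← h.q_eq_one (mul_mem (inv_mem hx) hy), q_mul (inv_mem hx) hy, q_inv hx]
  exact ⟨fun e => by rw [e, inv_mul_cancel], fun e => (inv_mul_eq_one.1 e)⟩

theorem surj {y : Ω'} (hy : y ∈ S') : ∃ x ∈ S, q θ x = y := by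
  obtain ⟨x, rfl⟩ := h.fac.2.2.1.ge hy
  exact ⟨x, x.2, q_coe x⟩

theorem Z_le_preimg (U : Subgroup Ω') : Z ≤ preimg θ U := factor_preimg_le h.fac U

theorem img_le (P : Subgroup Ω) : img θ P ≤ S' := (img_le_range P).trans h.fac.2.2.1.le

theorem img_preimg' {U : Subgroup Ω'} (hU : U ≤ S') : img θ (preimg θ U) = U :=
  img_preimg (hU.trans h.fac.2.2.1.ge)

theorem preimg_img' {P : Subgroup Ω} (hP : P ≤ S) (hZP : Z ≤ P) : preimg θ (img θ P) = P :=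
  preimg_img h.fac.2.1 hP hZP

theorem commute_Z {z x : Ω} (hz : z ∈ Z) (hx : x ∈ S) : x * z = z * x := by
  have hzc : z ∈ F.center := le_sSup (show Z ∈ {Q | F.IsCentral Q} from h.cen) hz
  exact F.center_le_centralizer hzc x hx

theorem fixZ {U : Subgroup Ω} {f : Ω → Ω} (hf : Mor F U f) {x : Ω} (hx : x ∈ U) (hxZ : x ∈ Z) :
    f x = x := by
  obtain ⟨φ, hφ, e⟩ := hf
  obtain ⟨ψ, -, he, hz⟩ := h.cen.2 U φ hφ
  rw [← e ⟨x, hx⟩, ← he ⟨x, hx⟩]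
  exact (apply_congr ψ rfl).trans (hz ⟨x, hxZ⟩)

theorem extendZ {P : Subgroup Ω} {f : Ω → Ω} (hf : Mor F P f) :
    ∃ g, Mor F (P ⊔ Z) g ∧ ∀ x ∈ P, g x = f x := by
  obtain ⟨φ, hφ, e⟩ := hf
  obtain ⟨ψ, hψ, he, -⟩ := h.cen.2 P φ hφ
  obtain ⟨g, hg, hge⟩ := Mor.of_mem hψ
  exact ⟨g, hg, fun x hx => (hge ⟨x, Subgroup.mem_sup_left hx⟩).trans ((he ⟨x, hx⟩).trans (e ⟨x, hx⟩))⟩

theorem induce {P : Subgroup Ω} {f : Ω → Ω} (hf : Mor F P f) :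
    ∃ f', Mor Fb (img θ P) f' ∧ Rel θ P f f' := by
  obtain ⟨φ, hφ, e⟩ := hf
  obtain ⟨φ', hφ', hi⟩ := induces_of_mem h.stronglyClosed_Z h.fac p h.hS h.hF hφ
  obtain ⟨f', hf', e'⟩ := Mor.of_mem hφ'
  have hPS := le_of_mem_hom hφ
  refine ⟨f', hf', fun x hx => ?_⟩
  have hm : θ ⟨x, hPS hx⟩ ∈ img θ P := apply_mem_img hx
  rw [q_of_mem (hPS hx), ← e ⟨x, hx⟩, q_of_mem (apply_mem_S hφ _), e' ⟨_, hm⟩]
  exact (induced_apply hi ⟨x, hx⟩).symm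

theorem lift {P' : Subgroup Ω'} {f' : Ω' → Ω'} (hf : Mor Fb P' f') :
    ∃ f, Mor F (preimg θ P') f ∧ Rel θ (preimg θ P') f f' := by
  obtain ⟨φ', hφ', e'⟩ := hf
  obtain ⟨φ, hφ, hi⟩ := exists_lift_hom h.fac hφ'
  obtain ⟨f, hf, e⟩ := Mor.of_mem hφ
  refine ⟨f, hf, fun x hx => ?_⟩
  obtain ⟨hxS, hxP⟩ := mem_preimg.1 hx
  rw [q_of_mem hxS, e ⟨x, hx⟩, q_of_mem (apply_mem_S hφ _), ← e' ⟨_, hxP⟩]
  exact (induced_apply hi ⟨x, hx⟩).symm

theorem im_img {P Q : Subgroup Ω} {f : Ω → Ω} {f' : Ω' → Ω'} (hP : P ≤ S) (hQ : Q ≤ S)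
    (hi : Im f P Q) (hr : Rel θ P f f') : Im f' (img θ P) (img θ Q) := fun y => by
  rw [mem_img_q hQ]
  constructor
  · rintro ⟨x, hx, rfl⟩
    obtain ⟨w, hw, rfl⟩ := hi.surj hx
    exact ⟨q θ w, q_mem_img hP hw, (hr w hw).symm⟩
  · rintro ⟨x, hx, rfl⟩
    obtain ⟨w, hw, rfl⟩ := (mem_img_q hP).1 hx
    exact ⟨f w, hi.mem hw, hr w hw⟩

theorem Z_le_im {P Q : Subgroup Ω} {f : Ω → Ω} (hf : Mor F P f) (hi : Im f P Q) (hZP : Z ≤ P) :
    Z ≤ Q := fun z hz => by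
  rw [← h.fixZ hf (hZP hz) hz]
  exact hi.mem (hZP hz)

theorem im_preimg {P' Q' : Subgroup Ω'} {f : Ω → Ω} {f' : Ω' → Ω'} (hP' : P' ≤ S') (hQ' : Q' ≤ S')
    (hf : Mor F (preimg θ P') f) (hi : Im f' P' Q') (hr : Rel θ (preimg θ P') f f') :
    Im f (preimg θ P') (preimg θ Q') := by
  obtain ⟨Q, hQ⟩ := hf.exists_im le_rfl
  have hQS := hf.im_le_S le_rfl hQ
  have h1 := h.im_img (preimg_le P') hQS hQ hr
  rw [h.img_preimg' hP'] at h1
  have e := h1.unique hi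
  rw [← e, h.preimg_img' hQS (h.Z_le_im hf hQ (h.Z_le_preimg P'))]
  exact hQ

theorem preimg_normalizer {U : Subgroup Ω'} (hU : U ≤ S') :
    preimg θ (normalizerIn S' U) = normalizerIn S (preimg θ U) := preimg_normalizerIn h.fac hU

end Setup

/-! ### Automorphisms acting trivially on the quotient, and the lifts of `Aut_E` -/

/-- The automorphisms of `Q` of the system that act trivially on its image. -/
def kerA (F : FusionSystem S) (θ : S →* Ω') (Q : Subgroup Ω) : Subgroup (MulAut Q) where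
  carrier := {α | α ∈ F.autGroup Q ∧ ∀ x : Q, q θ ((α x : Q) : Ω) = q θ (x : Ω)}
  one_mem' := ⟨one_mem _, fun _ => rfl⟩
  mul_mem' {a b} ha hb := ⟨mul_mem ha.1 hb.1, fun x => (ha.2 (b x)).trans (hb.2 x)⟩
  inv_mem' {a} ha := ⟨Subgroup.inv_mem _ ha.1, fun x => by
    conv_rhs => rw [← MulAut.apply_inv_self Q a x, ha.2]⟩

/-- The automorphisms of `Q` of the system inducing elements of `Aut_E`. -/
def pullA (F : FusionSystem S) (θ : S →* Ω') (E : FusionSystem T') (Q : Subgroup Ω) :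
    Subgroup (MulAut Q) where
  carrier := {α | α ∈ F.autGroup Q ∧ ∃ α' ∈ E.autGroup (img θ Q),
    ∀ x : Q, q θ ((α x : Q) : Ω) = extAut α' (q θ (x : Ω))}
  one_mem' := ⟨one_mem _, 1, one_mem _, fun _ => (extAut_one _).symm⟩
  mul_mem' {a b} := by
    rintro ⟨ha, a', ha', hae⟩ ⟨hb, b', hb', hbe⟩
    exact ⟨mul_mem ha hb, a' * b', mul_mem ha' hb', fun x => by
      rw [extAut_mul, ← hbe x]; exact hae (b x)⟩
  inv_mem' {a} := by
    rintro ⟨ha, a', ha', hae⟩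
    refine ⟨Subgroup.inv_mem _ ha, a'⁻¹, Subgroup.inv_mem _ ha', fun x => ?_⟩
    conv_rhs => rw [← MulAut.apply_inv_self Q a x, hae, extAut_inv_apply]

theorem mem_kerA {Q : Subgroup Ω} {α : MulAut Q} :
    α ∈ kerA F θ Q ↔ α ∈ F.autGroup Q ∧ ∀ x : Q, q θ ((α x : Q) : Ω) = q θ (x : Ω) := Iff.rfl

theorem kerA_le_pullA {Q : Subgroup Ω} : kerA F θ Q ≤ pullA F θ E Q := fun _ hα =>
  ⟨hα.1, 1, one_mem _, fun x => (hα.2 x).trans (extAut_one _).symm⟩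

namespace Setup

variable [Finite S] [Fact p.Prime] (h : Setup p F Z θ Fb E)
include h

theorem kerA_decomp {Q : Subgroup Ω} (hQ : Q ≤ S) {k : MulAut Q} (hk : k ∈ kerA F θ Q) (x : Q) :
    ∃ z ∈ Z, ((k x : Q) : Ω) = (x : Ω) * z :=
  ⟨(x : Ω)⁻¹ * ((k x : Q) : Ω), (h.q_eq (hQ x.2) (hQ (k x).2)).1 (hk.2 x).symm,
    (mul_inv_cancel_left _ _).symm⟩

theorem aut_fix {Q : Subgroup Ω} (hQ : Q ≤ S) {α : MulAut Q} (hα : α ∈ F.autGroup Q) {x : Q}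
    (hx : (x : Ω) ∈ Z) : α x = x := by
  obtain ⟨f, hf, -, hfe⟩ := exists_mor_of_aut hQ hα
  exact Subtype.ext ((hfe x).symm.trans (h.fixZ hf x.2 hx))

theorem kerA_normal {Q : Subgroup Ω} (hQ : Q ≤ S) {α k : MulAut Q}
    (hα : α ∈ F.autGroup Q) (hk : k ∈ kerA F θ Q) : α * k * α⁻¹ ∈ kerA F θ Q := by
  refine ⟨mul_mem (mul_mem hα hk.1) (Subgroup.inv_mem _ hα), fun x => ?_⟩
  obtain ⟨w, rfl⟩ := α.surjective x
  obtain ⟨z, hz, he⟩ := h.kerA_decomp hQ hk w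
  have hzQ : z ∈ Q := by
    rw [show z = (w : Ω)⁻¹ * ((k w : Q) : Ω) by rw [he, inv_mul_cancel_left]]
    exact mul_mem (inv_mem w.2) (k w).2
  have h1 : (α * k * α⁻¹) (α w) = α w * ⟨z, hzQ⟩ := by
    rw [MulAut.mul_apply, MulAut.inv_apply_self, MulAut.mul_apply,
      show k w = w * ⟨z, hzQ⟩ from Subtype.ext he, map_mul,
      h.aut_fix hQ hα (x := ⟨z, hzQ⟩) hz]
  rw [h1, Subgroup.coe_mul, q_mul (hQ (α w).2) (h.ZS hz), (h.q_eq_one (h.ZS hz)).2 hz, mul_one]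

theorem kerA_comm {Q : Subgroup Ω} (hQ : Q ≤ S) {a b : MulAut Q} (ha : a ∈ kerA F θ Q)
    (hb : b ∈ kerA F θ Q) : a * b = b * a := by
  refine MulEquiv.ext fun x => Subtype.ext ?_
  obtain ⟨z, hz, hze⟩ := h.kerA_decomp hQ ha x
  obtain ⟨w, hw, hwe⟩ := h.kerA_decomp hQ hb x
  have hzQ : z ∈ Q := by
    rw [show z = (x : Ω)⁻¹ * ((a x : Q) : Ω) by rw [hze, inv_mul_cancel_left]]
    exact mul_mem (inv_mem x.2) (a x).2
  have hwQ : w ∈ Q := by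
    rw [show w = (x : Ω)⁻¹ * ((b x : Q) : Ω) by rw [hwe, inv_mul_cancel_left]]
    exact mul_mem (inv_mem x.2) (b x).2
  have e1 : a x = x * ⟨z, hzQ⟩ := Subtype.ext hze
  have e2 : b x = x * ⟨w, hwQ⟩ := Subtype.ext hwe
  simp only [MulAut.mul_apply, e1, e2, map_mul, h.aut_fix hQ ha.1 (x := ⟨w, hwQ⟩) hw,
    h.aut_fix hQ hb.1 (x := ⟨z, hzQ⟩) hz, Subgroup.coe_mul]
  rw [mul_assoc, mul_assoc, h.commute_Z hw (h.ZS hz)]

theorem kerA_isPGroup {Q : Subgroup Ω} (hQ : Q ≤ S) : IsPGroup p (kerA F θ Q) := by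
  haveI : Finite Z := finite_of_le h.ZS
  obtain ⟨j, hj⟩ := IsPGroup.iff_card.1 (isPGroup_of_le h.hS h.ZS)
  intro k
  refine ⟨j, Subtype.ext (MulEquiv.ext fun x => Subtype.ext ?_)⟩
  obtain ⟨z, hz, he⟩ := h.kerA_decomp hQ k.2 x
  have key : ∀ n : ℕ, ((((k : MulAut Q) ^ n) x : Q) : Ω) = (x : Ω) * z ^ n := by
    intro n
    induction n with
    | zero => simp
    | succ n ih =>
      have hznQ : z ^ n ∈ Q := by
        rw [show z ^ n = (x : Ω)⁻¹ * ((((k : MulAut Q) ^ n) x : Q) : Ω) by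
          rw [ih, inv_mul_cancel_left]]
        exact mul_mem (inv_mem x.2) (SetLike.coe_mem _)
      rw [pow_succ' (k : MulAut Q), MulAut.mul_apply,
        show ((k : MulAut Q) ^ n) x = x * ⟨z ^ n, hznQ⟩ from Subtype.ext ih, map_mul,
        h.aut_fix hQ k.2.1 (x := ⟨z ^ n, hznQ⟩) (pow_mem hz n), Subgroup.coe_mul, he, pow_succ',
        mul_assoc]
  show ((((k : MulAut Q) ^ p ^ j) x : Q) : Ω) = x
  rw [key, ← hj, show z ^ Nat.card Z = 1 from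
    congrArg Subtype.val (pow_card_eq_one' (x := (⟨z, hz⟩ : Z))), mul_one]

/-- On a fully normalized subgroup the kernel consists of conjugations. -/
theorem kerA_induced {Q : Subgroup Ω} (hQ : Q ≤ S) (hfn : F.IsFullyNormalized Q) {k : MulAut Q}
    (hk : k ∈ kerA F θ Q) :
    ∃ t ∈ normalizerIn S Q, (∀ x : Q, ((k x : Q) : Ω) = t * x * t⁻¹) ∧
      q θ t ∈ centralizerIn S' (img θ Q) := by
  haveI : Finite Q := finite_of_le hQ
  haveI : Finite (MulAut Q) := finite_mulAut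
  obtain ⟨⟨-, R, hR⟩, -⟩ := good_of_fullyNormalized p h.hS h.hF hfn
  have hle : (kerA F θ Q).subgroupOf (F.autGroup Q) ≤ (R : Subgroup (F.autGroup Q)) := by
    haveI : ((kerA F θ Q).subgroupOf (F.autGroup Q)).Normal := ⟨fun a ha g =>
      h.kerA_normal hQ g.2 ha⟩
    obtain ⟨R', hR'⟩ := ((h.kerA_isPGroup hQ).comap_of_injective (F.autGroup Q).subtype
      Subtype.val_injective).exists_le_sylow
    obtain ⟨g, rfl⟩ := MulAction.exists_smul_eq (F.autGroup Q) R' R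
    intro a ha
    rw [Sylow.coe_subgroup_smul]
    refine ⟨g⁻¹ * a * g, hR' (by simpa using Subgroup.Normal.conj_mem ‹_› a ha g⁻¹), ?_⟩
    simp [MulAut.conj_apply, mul_assoc]
  have hm := hle (show (⟨k, hk.1⟩ : F.autGroup Q) ∈ (kerA F θ Q).subgroupOf (F.autGroup Q) from hk)
  rw [hR] at hm
  obtain ⟨t, ht, hte⟩ := mem_autInducedBy.1 (Subgroup.mem_subgroupOf.1 hm)
  refine ⟨t, ⟨ht, mem_normalizer_of_aut hte⟩, hte, mem_centralizerIn.2 ⟨h.q_mem ht, fun y hy => ?_⟩⟩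
  obtain ⟨x, hx, rfl⟩ := (mem_img_q hQ).1 hy
  have e := (congrArg (q θ) (hte ⟨x, hx⟩)).symm.trans (hk.2 ⟨x, hx⟩)
  rw [q_conj ht (hQ hx)] at e
  exact (mul_inv_eq_iff_eq_mul.1 e).symm

/-- The lifts of `Aut_E` centralize the kernel modulo inner automorphisms. -/
theorem comm_mem_inn {Q' : Subgroup Ω'} (hQ' : E.IsCentric Q') {m k : MulAut (preimg θ Q')}
    (hm : m ∈ pullA F θ E (preimg θ Q')) (hk : k ∈ kerA F θ (preimg θ Q')) :
    m * k * m⁻¹ * k⁻¹ ∈ Inn (preimg θ Q') := by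
  haveI := h.finS'
  have hQS' : Q' ≤ S' := hQ'.1.trans h.TS'
  obtain ⟨Q₁, hconj, hfn⟩ := exists_fullyNormalized Fb hQS'
  obtain ⟨g', hg', hgi'⟩ := isConj_iff_mor.1 hconj
  have hQ₁S : Q₁ ≤ S' := hfn.1
  have hQ₁T : Q₁ ≤ T' := fun y hy => by
    obtain ⟨x, hx, rfl⟩ := hgi'.surj hy
    exact mor_T h.inv hQ'.1 hg' hx
  have hQ₁c : E.IsCentric Q₁ := ⟨hQ₁T, fun U hU =>
    centralizer_le_of_isConj h.inv hQ' (isConj_trans hconj (isConj_of_subsystem h.inv.1 hU))⟩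
  obtain ⟨g, hg, hgr⟩ := h.lift hg'
  have hgi := h.im_preimg hQS' hQ₁S hg hgi' hgr
  obtain ⟨e, he, hemap⟩ := hg.exists_equiv le_rfl hgi
  obtain ⟨e', he', -⟩ := hg'.exists_equiv le_rfl hgi'
  have hQS : preimg θ Q' ≤ S := preimg_le Q'
  have hQ₁S' : preimg θ Q₁ ≤ S := preimg_le Q₁
  have hfn₁ : F.IsFullyNormalized (preimg θ Q₁) :=
    (fullyNormalized_factor h.stronglyClosed_Z h.fac hQ₁S).1 hfn
  -- transport
  have hm₁ : MulAut.congr e m ∈ F.autGroup (preimg θ Q₁) := hemap.le ⟨m, hm.1, rfl⟩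
  have hk₁ : MulAut.congr e k ∈ kerA F θ (preimg θ Q₁) := ⟨hemap.le ⟨k, hk.1, rfl⟩, fun x => by
    obtain ⟨w, rfl⟩ := e.surjective x
    simp only [MulAut.congr_apply, MulEquiv.trans_apply, MulEquiv.symm_apply_apply]
    rw [he, he, hgr _ (k w).2, hgr _ w.2, hk.2 w]⟩
  obtain ⟨m', hm', hme⟩ := hm.2
  obtain ⟨u, hu, hui, hue⟩ :=
    exists_mor_of_aut (F := E) ((h.img_preimg' hQS').le.trans hQ'.1) hm'
  rw [h.img_preimg' hQS'] at hu hui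
  obtain ⟨α, hα, hαu⟩ := hu.exists_aut le_rfl hui
  have hmu : ∀ x : preimg θ Q', q θ ((m x : preimg θ Q') : Ω) = u (q θ (x : Ω)) := fun x => by
    rw [hme x, extAut_of_mem _ (q_mem_img hQS x.2), hue ⟨_, q_mem_img hQS x.2⟩]
  have hb : MulAut.congr e' α ∈ E.autGroup Q₁ :=
    autGroup_transfer h.inv hQ'.1 hg' hgi' e' he' hα
  obtain ⟨β, hβ, hβb, hβm⟩ := NormExt.autGroup_le_modAut p h.pS' h.nml hQ₁c hfn hb
  have hVS : Q₁ ⊔ centralizerIn S' Q₁ ≤ S' := sup_le hQ₁S (centralizerIn_le_S _)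
  obtain ⟨fβ, hfβ, hfβi, hfβe⟩ := exists_mor_of_aut hVS hβ
  obtain ⟨ψ, hψ, hψr⟩ := h.lift hfβ
  have hQ₁V : preimg θ Q₁ ≤ preimg θ (Q₁ ⊔ centralizerIn S' Q₁) := preimg_mono le_sup_left
  have hfQ : Im fβ Q₁ Q₁ := fun y => by
    constructor
    · intro hy
      obtain ⟨x, hx⟩ := (MulAut.congr e' α).surjective ⟨y, hy⟩
      refine ⟨x, x.2, (hfβe (Subgroup.inclusion le_sup_left x)).trans ((hβb x).trans ?_)⟩
      rw [hx]
    · rintro ⟨x, hx, rfl⟩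
      refine Set.mem_of_eq_of_mem ((hfβe (Subgroup.inclusion le_sup_left ⟨x, hx⟩)).trans
        (hβb ⟨x, hx⟩)) (SetLike.coe_mem _)
  have hψi : Im ψ (preimg θ Q₁) (preimg θ Q₁) :=
    h.im_preimg hQ₁S hQ₁S (hψ.mono hQ₁V) hfQ (hψr.mono hQ₁V)
  obtain ⟨ψQ, hψQ, hψQe⟩ := hψ.exists_aut hQ₁V hψi
  have hqQ : ∀ x : preimg θ Q₁, q θ (x : Ω) ∈ Q₁ := fun x => (mem_preimg_q.1 x.2).2
  have hψQb : ∀ x : preimg θ Q₁, q θ ((ψQ x : preimg θ Q₁) : Ω) =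
      ((MulAut.congr e' α ⟨q θ (x : Ω), hqQ x⟩ : Q₁) : Ω') := fun x => by
    rw [hψQe, hψr _ (hQ₁V x.2)]
    exact (hfβe (Subgroup.inclusion le_sup_left ⟨_, hqQ x⟩)).trans (hβb _)
  have hm₁b : ∀ x : preimg θ Q₁, q θ ((MulAut.congr e m x : preimg θ Q₁) : Ω) =
      ((MulAut.congr e' α ⟨q θ (x : Ω), hqQ x⟩ : Q₁) : Ω') := fun x => by
    obtain ⟨w, rfl⟩ := e.surjective x
    have hw : q θ (w : Ω) ∈ Q' := (mem_preimg_q.1 w.2).2
    have h0 : (⟨q θ ((e w : preimg θ Q₁) : Ω), hqQ (e w)⟩ : Q₁) = e' ⟨_, hw⟩ :=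
      Subtype.ext (by rw [he']; exact (congrArg (q θ) (he w)).trans (hgr _ w.2))
    simp only [h0, MulAut.congr_apply, MulEquiv.trans_apply, MulEquiv.symm_apply_apply]
    rw [he, hgr _ (m w).2, hmu, he', hαu]
  have hk' : ψQ⁻¹ * MulAut.congr e m ∈ kerA F θ (preimg θ Q₁) := by
    refine ⟨mul_mem (Subgroup.inv_mem _ hψQ) hm₁, fun x => ?_⟩
    have h1 := hψQb ((ψQ⁻¹ * MulAut.congr e m) x)
    rw [MulAut.mul_apply, MulAut.apply_inv_self, hm₁b] at h1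
    exact congrArg Subtype.val ((MulAut.congr e' α).injective (Subtype.ext h1)).symm
  obtain ⟨t, ⟨htS, htN⟩, hte, htC⟩ := h.kerA_induced hQ₁S' hfn₁ hk₁
  rw [h.img_preimg' hQ₁S] at htC
  have htV : t ∈ preimg θ (Q₁ ⊔ centralizerIn S' Q₁) :=
    mem_preimg_q.2 ⟨htS, Subgroup.mem_sup_right htC⟩
  have hψtS : ψ t ∈ S := hψ.mem_S htV
  have hu₀ : t⁻¹ * ψ t ∈ preimg θ Q₁ := by
    refine mem_preimg_q.2 ⟨mul_mem (inv_mem htS) hψtS, ?_⟩
    rw [q_mul (inv_mem htS) hψtS, q_inv htS, hψr _ htV,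
      hfβe ⟨q θ t, Subgroup.mem_sup_right htC⟩]
    exact hβm ⟨q θ t, Subgroup.mem_sup_right htC⟩ htC
  have hv : t * (t⁻¹ * ψ t) * t⁻¹ ∈ preimg θ Q₁ := (Subgroup.mem_normalizer_iff.1 htN _).1 hu₀
  have hcomm : MulAut.congr e m * MulAut.congr e k * (MulAut.congr e m)⁻¹ * (MulAut.congr e k)⁻¹ =
      ψQ * MulAut.congr e k * ψQ⁻¹ * (MulAut.congr e k)⁻¹ := by
    have h2 : MulAut.congr e m = ψQ * (ψQ⁻¹ * MulAut.congr e m) := (mul_inv_cancel_left _ _).symm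
    have h3 := h.kerA_comm hQ₁S' hk' hk₁
    rw [h2]
    calc ψQ * (ψQ⁻¹ * MulAut.congr e m) * MulAut.congr e k *
          (ψQ * (ψQ⁻¹ * MulAut.congr e m))⁻¹ * (MulAut.congr e k)⁻¹
        = ψQ * ((ψQ⁻¹ * MulAut.congr e m) * MulAut.congr e k) *
          (ψQ⁻¹ * MulAut.congr e m)⁻¹ * ψQ⁻¹ * (MulAut.congr e k)⁻¹ := by group
      _ = ψQ * MulAut.congr e k * ψQ⁻¹ * (MulAut.congr e k)⁻¹ := by rw [h3]; group
  have hval : ψQ * MulAut.congr e k * ψQ⁻¹ =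
      MulAut.conj (⟨_, hv⟩ : preimg θ Q₁) * MulAut.congr e k := by
    refine MulEquiv.ext fun x => Subtype.ext ?_
    obtain ⟨w, rfl⟩ := ψQ.surjective x
    rw [MulAut.mul_apply, MulAut.inv_apply_self, MulAut.mul_apply, hψQe, hte, MulAut.mul_apply,
      MulAut.conj_apply, Subgroup.coe_mul, Subgroup.coe_mul, InvMemClass.coe_inv, hte, hψQe,
      hψ.map_conj htV (hQ₁V w.2)]
    group
  have hcomm' : MulAut.congr e m * MulAut.congr e k * (MulAut.congr e m)⁻¹ *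
      (MulAut.congr e k)⁻¹ = MulAut.conj (⟨_, hv⟩ : preimg θ Q₁) := by
    rw [hcomm, hval, mul_inv_cancel_right]
  refine ⟨e.symm ⟨_, hv⟩, (MulAut.congr e).injective ?_⟩
  have h4 : MulAut.congr e (MulAut.conj (e.symm ⟨_, hv⟩)) = MulAut.conj (⟨_, hv⟩ : preimg θ Q₁) := by
    refine MulEquiv.ext fun x => ?_
    simp [MulAut.congr_apply]
  rw [h4, map_mul, map_mul, map_mul, map_inv, map_inv]
  exact hcomm'.symm

end Setup

end CfsgLib.CentLift
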