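import Cfsg.Agent.Fusion.CentralLift.Kernel
import Cfsg.Agent.Fusion.NormalizerModel

/-!
The maps generated by conjugations of `R` and lifts of order prime to `p` of automorphisms of a
normal subsystem of the quotient; these lifts are unique up to inner automorphisms.
-/

set_option autoImplicit false
set_option linter.style.haveILetI false
set_option linter.unusedSectionVars false

open Cfsg Cfsg.FusionSystem CfsgLib.Fusion CfsgLib.FocCent

namespace CfsgLib.CentLift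

variable {Ω : Type*} [Group Ω] {S Z : Subgroup Ω} {Ω' : Type*} [Group Ω'] {S' T' : Subgroup Ω'}
  {θ : S →* Ω'} {F : FusionSystem S} {Fb : FusionSystem S'} {E : FusionSystem T'} {p : ℕ}

/-- The maps generated by `R` and the lifts of order prime to `p`. -/
inductive Gen (p : ℕ) (F : FusionSystem S) (θ : S →* Ω') (E : FusionSystem T') :
    Subgroup Ω → (Ω → Ω) → Prop
  | conj {P : Subgroup Ω} {r : Ω} : P ≤ preimg θ T' → r ∈ preimg θ T' →
      Gen p F θ E P fun x => r * x * r⁻¹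
  | gen {P : Subgroup Ω} {W' : Subgroup Ω'} {α : MulAut (preimg θ W')} {f : Ω → Ω} :
      E.IsCentric W' → α ∈ pullA F θ E (preimg θ W') → (orderOf α).Coprime p →
      P ≤ preimg θ W' → (∀ x : preimg θ W', f x = ((α x : preimg θ W') : Ω)) → Gen p F θ E P f
  | comp {P Q : Subgroup Ω} {f g : Ω → Ω} : Gen p F θ E P f → (∀ x ∈ P, f x ∈ Q) →
      Gen p F θ E Q g → Gen p F θ E P (g ∘ f)
  | congr {P : Subgroup Ω} {f g : Ω → Ω} : Gen p F θ E P f → (∀ x ∈ P, g x = f x) →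
      Gen p F θ E P g

/-- The generators at a given level. -/
def genB (p : ℕ) (F : FusionSystem S) (θ : S →* Ω') (E : FusionSystem T') (Q' : Subgroup Ω') :
    Subgroup (MulAut (preimg θ Q')) :=
  Subgroup.closure
    ((autInducedBy (preimg θ T') (preimg θ Q') : Set (MulAut (preimg θ Q'))) ∪
      {a | a ∈ pullA F θ E (preimg θ Q') ∧ (orderOf a).Coprime p})

/-- `f` restricted to `preimg θ Q'` is a product of generators of that level. -/
def InB (p : ℕ) (F : FusionSystem S) (θ : S →* Ω') (E : FusionSystem T') (Q' : Subgroup Ω')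
    (f : Ω → Ω) : Prop :=
  ∃ β ∈ genB p F θ E Q', ∀ x : preimg θ Q', f x = ((β x : preimg θ Q') : Ω)

theorem InB.mem {Q' : Subgroup Ω'} {f : Ω → Ω} (h : InB p F θ E Q' f) {x : Ω}
    (hx : x ∈ preimg θ Q') : f x ∈ preimg θ Q' := by
  obtain ⟨β, -, he⟩ := h
  exact (he ⟨x, hx⟩).symm ▸ SetLike.coe_mem _

theorem InB.comp {Q' : Subgroup Ω'} {f g : Ω → Ω} (hf : InB p F θ E Q' f)
    (hg : InB p F θ E Q' g) : InB p F θ E Q' (g ∘ f) := by
  obtain ⟨β, hβ, he⟩ := hf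
  obtain ⟨γ, hγ, hge⟩ := hg
  exact ⟨γ * β, mul_mem hγ hβ, fun x => by
    show g (f x) = _
    rw [he x, hge]; rfl⟩

theorem InB.congr {Q' : Subgroup Ω'} {f g : Ω → Ω} (hf : InB p F θ E Q' f)
    (e : ∀ x ∈ preimg θ Q', g x = f x) : InB p F θ E Q' g := by
  obtain ⟨β, hβ, he⟩ := hf
  exact ⟨β, hβ, fun x => (e x x.2).trans (he x)⟩

theorem InB.inv {Q' : Subgroup Ω'} {f g : Ω → Ω} (hf : InB p F θ E Q' f)
    (e : ∀ x ∈ preimg θ Q', g (f x) = x) : InB p F θ E Q' g := by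
  obtain ⟨β, hβ, he⟩ := hf
  refine ⟨β⁻¹, inv_mem hβ, fun x => ?_⟩
  conv_lhs => rw [← MulAut.apply_inv_self _ β x, ← he]
  exact e _ (SetLike.coe_mem _)

theorem inB_conj {Q' : Subgroup Ω'} {r : Ω} (hr : r ∈ normalizerIn (preimg θ T') (preimg θ Q')) :
    InB p F θ E Q' fun x => r * x * r⁻¹ :=
  ⟨conjAut _ _ ⟨r, hr⟩, Subgroup.subset_closure (Or.inl (mem_autInducedBy.2 ⟨r, hr.1, fun _ => rfl⟩)),
    fun _ => rfl⟩

namespace Gen

variable {P W : Subgroup Ω} {f : Ω → Ω}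

theorem mono (hf : Gen p F θ E P f) : ∀ {U : Subgroup Ω}, U ≤ P → Gen p F θ E U f := by
  induction hf with
  | conj hP hr => exact fun hU => Gen.conj (hU.trans hP) hr
  | gen h1 h2 h3 h4 h5 => exact fun hU => Gen.gen h1 h2 h3 (hU.trans h4) h5
  | comp _ hm h2 ih1 _ => exact fun hU => Gen.comp (ih1 hU) (fun x hx => hm x (hU hx)) h2
  | congr _ e ih => exact fun hU => Gen.congr (ih hU) fun x hx => e x (hU hx)

end Gen

namespace Setup

variable [Finite S] [Fact p.Prime] (h : Setup p F Z θ Fb E)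
include h

theorem Z_le_R : Z ≤ preimg θ T' := h.Z_le_preimg T'

theorem genB_le_pullA {Q' : Subgroup Ω'} (hQ : Q' ≤ T') :
    genB p F θ E Q' ≤ pullA F θ E (preimg θ Q') :=
  (Subgroup.closure_le _).2 (Set.union_subset (h.autInduced_le_pullA hQ) fun _ ha => ha.1)

theorem normalizer_R {Q' : Subgroup Ω'} (hQ : Q' ≤ T') :
    preimg θ (normalizerIn T' Q') = normalizerIn (preimg θ T') (preimg θ Q') := by
  ext r
  constructor
  · intro hr
    obtain ⟨hrS, hrq⟩ := mem_preimg_q.1 hr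
    refine ⟨mem_preimg_q.2 ⟨hrS, hrq.1⟩, ?_⟩
    have h1 : r ∈ preimg θ (normalizerIn S' Q') := mem_preimg_q.2 ⟨hrS, h.TS' hrq.1, hrq.2⟩
    rw [h.preimg_normalizer (hQ.trans h.TS')] at h1
    exact h1.2
  · intro hr
    exact mem_preimg_q.2 ⟨(mem_preimg_q.1 hr.1).1, (h.induced_rel hQ hr).1⟩

theorem gen_mor {P : Subgroup Ω} {f : Ω → Ω} (hf : Gen p F θ E P f) :
    Mor F P f ∧ P ≤ preimg θ T' ∧ ∀ x ∈ P, f x ∈ preimg θ T' := by
  induction hf with
  | conj hP hr =>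
    exact ⟨Mor.conj_mor (hP.trans (preimg_le T')) (preimg_le T' hr), hP,
      fun x hx => mul_mem (mul_mem hr (hP hx)) (inv_mem hr)⟩
  | gen hW hα hc hP he =>
    obtain ⟨a, ha, -, hae⟩ := exists_mor_of_aut (preimg_le _) hα.1
    have hWR := preimg_mono (θ := θ) hW.1
    exact ⟨(ha.congr fun x hx => (he ⟨x, hx⟩).trans (hae ⟨x, hx⟩).symm).mono hP, hP.trans hWR,
      fun x hx => (he ⟨x, hP hx⟩).symm ▸ hWR (SetLike.coe_mem _)⟩
  | comp _ hm _ ih1 ih2 =>
    exact ⟨ih1.1.comp ih2.1 hm, ih1.2.1, fun x hx => ih2.2.2 _ (hm x hx)⟩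
  | congr _ e ih => exact ⟨ih.1.congr e, ih.2.1, fun x hx => (e x hx).symm ▸ ih.2.2 x hx⟩

theorem gen_rel {P : Subgroup Ω} {f : Ω → Ω} (hf : Gen p F θ E P f) :
    ∃ f', Mor E (img θ P) f' ∧ Rel θ P f f' := by
  induction hf with
  | @conj P r hP hr =>
    obtain ⟨hrS, hrT⟩ := mem_preimg_q.1 hr
    refine ⟨fun y => q θ r * y * (q θ r)⁻¹, Mor.conj_mor ?_ hrT,
      fun x hx => q_conj hrS (preimg_le T' (hP hx))⟩
    intro y hy
    obtain ⟨x, hx, rfl⟩ := (mem_img_q (hP.trans (preimg_le T'))).1 hy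
    exact (mem_preimg_q.1 (hP hx)).2
  | @gen P W' α f hW hα hc hP he =>
    obtain ⟨a', ha', hae⟩ := h.pullA_exists hW.1 hα
    refine ⟨extAut a', Mor.mono (mor_extAut hW.1 ha') (fun y hy => ?_), fun x hx => ?_⟩
    · obtain ⟨x, hx, rfl⟩ := (mem_img_q (hP.trans (preimg_le _))).1 hy
      exact (mem_preimg_q.1 (hP hx)).2
    · rw [he ⟨x, hP hx⟩]
      exact hae ⟨x, hP hx⟩
  | @comp P Q f g hf hm hg ih1 ih2 =>
    obtain ⟨f', hf', hfr⟩ := ih1
    obtain ⟨g', hg', hgr⟩ := ih2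
    have hPS := (h.gen_mor hf).1.le_S
    have hQS := (h.gen_mor hg).1.le_S
    refine ⟨g' ∘ f', hf'.comp hg' fun y hy => ?_, hfr.comp hgr hm⟩
    obtain ⟨x, hx, rfl⟩ := (mem_img_q hPS).1 hy
    rw [← hfr x hx]
    exact q_mem_img hQS (hm x hx)
  | congr _ e ih =>
    obtain ⟨f', hf', hfr⟩ := ih
    exact ⟨f', hf', fun x hx => by rw [e x hx]; exact hfr x hx⟩

theorem gen_inv {P : Subgroup Ω} {f : Ω → Ω} (hf : Gen p F θ E P f) :
    ∀ {Q : Subgroup Ω}, Im f P Q → ∃ g, Gen p F θ E Q g ∧ Im g Q P ∧ ∀ x ∈ P, g (f x) = x := by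
  have hback : ∀ {P Q : Subgroup Ω} {f g : Ω → Ω}, Im f P Q → (∀ x ∈ P, g (f x) = x) → Im g Q P :=
    fun {P Q f g} hi e y => ⟨fun hy => ⟨f y, hi.mem hy, e y hy⟩, fun ⟨x, hx, hxe⟩ => by
      obtain ⟨w, hw, rfl⟩ := hi.surj hx
      rw [← hxe, e w hw]; exact hw⟩
  suffices key : ∀ {Q : Subgroup Ω}, Im f P Q → ∃ g, Gen p F θ E Q g ∧ ∀ x ∈ P, g (f x) = x by
    intro Q hi
    obtain ⟨g, hg, e⟩ := key hi
    exact ⟨g, hg, hback hi e, e⟩
  induction hf with
  | @conj P r hP hr =>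
    intro Q hi
    refine ⟨_, Gen.conj (r := r⁻¹) (fun y hy => ?_) (inv_mem hr), fun x hx => by group⟩
    obtain ⟨x, hx, rfl⟩ := hi.surj hy
    exact mul_mem (mul_mem hr (hP hx)) (inv_mem hr)
  | @gen P W' α f hW hα hc hP he =>
    intro Q hi
    classical
    let g : Ω → Ω := fun x => if hx : x ∈ preimg θ W' then ((α⁻¹ ⟨x, hx⟩ : preimg θ W') : Ω) else x
    refine ⟨g, Gen.gen (α := α⁻¹) hW (Subgroup.inv_mem _ hα) (by rwa [orderOf_inv]) (fun y hy => ?_)
      fun x => dif_pos x.2, fun x hx => ?_⟩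
    · obtain ⟨x, hx, rfl⟩ := hi.surj hy
      rw [he ⟨x, hP hx⟩]; exact SetLike.coe_mem _
    · show g (f x) = x
      rw [he ⟨x, hP hx⟩]
      refine (dif_pos (SetLike.coe_mem _)).trans ?_
      exact congrArg Subtype.val (MulAut.inv_apply_self _ α ⟨x, hP hx⟩)
  | @comp P Q f g hf hm hg ih1 ih2 =>
    intro V hi
    obtain ⟨U, hU⟩ := (h.gen_mor hf).1.exists_im le_rfl
    have hUQ : U ≤ Q := fun y hy => by
      obtain ⟨x, hx, rfl⟩ := hU.surj hy
      exact hm x hx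
    obtain ⟨f₁, hf₁, hf₁e⟩ := ih1 hU
    obtain ⟨W, hW⟩ := (h.gen_mor hg).1.exists_im le_rfl
    obtain ⟨g₁, hg₁, hg₁e⟩ := ih2 hW
    have hVW : V ≤ W := fun y hy => by
      obtain ⟨x, hx, rfl⟩ := hi.surj hy
      exact hW.mem (hm x hx)
    refine ⟨f₁ ∘ g₁, Gen.comp (hg₁.mono hVW) (fun y hy => ?_) hf₁, fun x hx => ?_⟩
    · obtain ⟨x, hx, rfl⟩ := hi.surj hy
      show g₁ (g (f x)) ∈ U
      rw [hg₁e _ (hm x hx)]
      exact hU.mem hx
    · show f₁ (g₁ (g (f x))) = x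
      rw [hg₁e _ (hm x hx), hf₁e x hx]
  | @congr P f g hf e ih =>
    intro Q hi
    obtain ⟨g₁, hg₁, hg₁e⟩ := ih (hi.congr fun x hx => (e x hx).symm)
    exact ⟨g₁, hg₁, fun x hx => by rw [e x hx]; exact hg₁e x hx⟩

/-! ### Surjectivity -/

/-- An automorphism of order prime to `p` of the normal subsystem lifts to a generator. -/
theorem exists_coprime_lift {P' : Subgroup Ω'} (hP : P' ≤ T') {a' : MulAut P'}
    (ha' : a' ∈ E.autGroup P') (hco : (orderOf a').Coprime p) :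
    ∃ α : MulAut (preimg θ P'), α ∈ pullA F θ E (preimg θ P') ∧ (orderOf α).Coprime p ∧
      ∀ x : preimg θ P', q θ ((α x : preimg θ P') : Ω) = extAut a' (q θ (x : Ω)) := by
  have hPS' : P' ≤ S' := hP.trans h.TS'
  haveI : Finite (preimg θ P') := finite_of_le (preimg_le P')
  haveI : Finite (MulAut (preimg θ P')) := finite_mulAut
  haveI := h.finT'
  haveI : Finite P' := finite_of_le hP
  obtain ⟨u, hu, hui, hue⟩ := exists_mor_of_aut hP ha'
  obtain ⟨g, hg, hgr⟩ := h.lift (mor_of_subsystem h.inv.1 hu)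
  obtain ⟨α, hα, hαe⟩ := hg.exists_aut le_rfl (h.im_preimg hPS' hPS' hg hui hgr)
  have hrel : ∀ x : preimg θ P', q θ ((α x : preimg θ P') : Ω) = extAut a' (q θ (x : Ω)) := fun x => by
    rw [hαe, hgr _ x.2, extAut_of_mem _ (mem_preimg_q.1 x.2).2, ← hue]
  have hpow : ∀ (n : ℕ) (x : preimg θ P'),
      q θ (((α ^ n) x : preimg θ P') : Ω) = extAut (a' ^ n) (q θ (x : Ω)) := by
    intro n
    induction n with
    | zero => intro x; exact (extAut_one _).symm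
    | succ n ih => intro x; rw [pow_succ', pow_succ', MulAut.mul_apply, extAut_mul, hrel, ih]
  obtain ⟨e, he1, he2⟩ := ConstrainedNormal.exists_pow_coprime p α
  have hdvd : orderOf a' ∣ orderOf α := orderOf_dvd_of_pow_eq_one
    (h.rel_unique hPS' (hpow _) fun x => by rw [pow_orderOf_eq_one]; exact (extAut_one _).symm)
  refine ⟨α ^ e, pow_mem (h.mem_pullA_of hP hα hu hui fun x => ?_) e, he1, fun x => ?_⟩
  · rw [hαe]; exact hgr _ x.2
  · rw [hpow, he2 a' hco hdvd]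

/-- Lifting automorphisms of a generated group. -/
theorem aut_le_of_gen (D : FusionSystem T') {X : Subgroup Ω'} {A : Subgroup (MulAut X)}
    (hX : X ≤ T') {T₀ : Subgroup Ω'} (R : Sylow p A)
    (hR : (R : Subgroup A) = (autInducedBy T₀ X).subgroupOf A) (hT₀ : autInducedBy T₀ X ≤ D.autGroup X)
    (hco : ∀ a ∈ A, (orderOf a).Coprime p → a ∈ D.autGroup X) : A ≤ D.autGroup X := by
  haveI := h.finT'
  haveI : Finite X := finite_of_le hX
  haveI : Finite (MulAut X) := finite_mulAut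
  intro a ha
  have hle : (⊤ : Subgroup A) ≤ (D.autGroup X).subgroupOf A := by
    refine le_of_sylow_coprime p R le_top (fun b hb => ?_) fun b _ hb => ?_
    · rw [hR] at hb
      exact hT₀ hb
    · exact hco b b.2 (by rwa [Subgroup.orderOf_coe])
  exact hle (Subgroup.mem_top ⟨a, ha⟩)

/-- Every map of the normal subsystem lifts to a generated map. -/
theorem exists_gen_lift {P' : Subgroup Ω'} {f' : Ω' → Ω'} (hf : Mor E P' f') :
    ∃ f, Gen p F θ E (preimg θ P') f ∧ Rel θ (preimg θ P') f f' := by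
  haveI := h.finT'
  let D : FusionSystem T' :=
    { Hom := fun P => {φ | φ ∈ E.Hom P ∧ ∃ f, Gen p F θ E (preimg θ P) f ∧
        ∀ x ∈ preimg θ P, ∀ hx : q θ x ∈ P, q θ (f x) = φ ⟨q θ x, hx⟩}
      le_of_mem := fun hφ => E.le_of_mem hφ.1
      injective_of_mem := fun hφ => E.injective_of_mem hφ.1
      conj_mem := fun {P g} hP hg => by
        refine ⟨E.conj_mem hP hg, ?_⟩
        obtain ⟨r, hrS, rfl⟩ := h.surj (h.TS' hg)
        exact ⟨_, Gen.conj (preimg_mono hP) (mem_preimg_q.2 ⟨hrS, hg⟩),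
          fun x hx _ => q_conj hrS (preimg_le _ hx)⟩
      comp_mem := fun {P Q φ ψ} hφ hψ hm => by
        obtain ⟨hφ, f, hf, hfe⟩ := hφ
        obtain ⟨hψ, g, hg, hge⟩ := hψ
        have hfm : ∀ x ∈ preimg θ P, f x ∈ preimg θ Q := fun x hx =>
          mem_preimg_q.2 ⟨(h.gen_mor hf).1.mem_S hx,
            (hfe x hx (mem_preimg_q.1 hx).2).symm ▸ hm _⟩
        refine ⟨E.comp_mem hφ hψ hm, g ∘ f, Gen.comp hf hfm hg, fun x hx hxP => ?_⟩
        show q θ (g (f x)) = ψ ⟨φ ⟨q θ x, hxP⟩, hm _⟩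
        rw [hge _ (hfm x hx) (mem_preimg_q.1 (hfm x hx)).2]
        exact apply_congr ψ (hfe x hx hxP)
      inv_mem := fun {P φ} hφ => by
        obtain ⟨hφ, f, hf, hfe⟩ := hφ
        obtain ⟨ψ, hψ, hψe⟩ := E.inv_mem hφ
        have hPS' : P ≤ S' := (le_of_mem_hom hφ).trans h.TS'
        obtain ⟨f₀, hf₀, hf₀e⟩ := Mor.of_mem hφ
        have hi : Im f₀ P φ.range := fun y =>
          ⟨fun ⟨x, hx⟩ => ⟨x, x.2, (hf₀e x).trans hx⟩, fun ⟨x, hx, e⟩ => ⟨⟨x, hx⟩, (hf₀e _).symm.trans e⟩⟩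
        have hr : Rel θ (preimg θ P) f f₀ := fun x hx =>
          (hfe x hx (mem_preimg_q.1 hx).2).trans (hf₀e ⟨_, _⟩).symm
        have hQS' : φ.range ≤ S' := (range_le_S hφ).trans h.TS'
        have hfi := h.im_preimg hPS' hQS' (h.gen_mor hf).1 hi hr
        obtain ⟨g, hg, -, hgf⟩ := h.gen_inv hf hfi
        refine ⟨ψ, ⟨hψ, g, hg, fun y hy hyQ => ?_⟩, hψe⟩
        obtain ⟨x, hx, rfl⟩ := hfi.surj hy
        rw [hgf x hx]
        refine Eq.symm (Eq.trans ?_ (hψe ⟨q θ x, (mem_preimg_q.1 hx).2⟩))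
        exact apply_congr ψ (hfe x hx (mem_preimg_q.1 hx).2) }
  have hall : E ≤ D := by
    refine alperin_saturated p h.pT' h.nml.1.1 D fun X hX => ?_
    have hXc : E.IsCentric X := hX.elim (fun e => by rw [e]; exact isCentric_S) fun e => e.1
    have hXn : E.IsFullyNormalized X :=
      hX.elim (fun e => by rw [e]; exact isFullyNormalized_S) fun e => e.2.1
    obtain ⟨⟨-, R, hR⟩, -⟩ := good_of_fullyNormalized p h.pT' h.nml.1.1 hXn
    refine h.aut_le_of_gen D hXc.1 R hR (autInducedBy_le_autGroup hXc.1) fun a ha hco => ?_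
    obtain ⟨α, hα, hαc, hαr⟩ := h.exists_coprime_lift hXc.1 ha hco
    obtain ⟨f, hf, -, hfe⟩ := exists_mor_of_aut (preimg_le X) hα.1
    refine (autGroup_carrier hXc.1).2 ⟨(autGroup_carrier hXc.1).1 ha, f,
      Gen.gen hXc hα hαc le_rfl hfe, fun x hx hxq => ?_⟩
    rw [hfe ⟨x, hx⟩, hαr, extAut_of_mem _ hxq]
    rfl
  obtain ⟨φ, hφ, hφe⟩ := hf
  obtain ⟨-, f, hg, hge⟩ := hall P' hφ
  exact ⟨f, hg, fun x hx => (hge x hx (mem_preimg_q.1 hx).2).trans (hφe _)⟩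

/-- Maps of normalizers between conjugates of a fully normalized subgroup lift to generated maps. -/
theorem exists_chi {P' Q' : Subgroup Ω'} (hfn : E.IsFullyNormalized Q') (hc : E.IsConj P' Q') :
    ∃ χ, Gen p F θ E (normalizerIn (preimg θ T') (preimg θ P')) χ ∧
      Im χ (preimg θ P') (preimg θ Q') ∧
      ∀ x ∈ normalizerIn (preimg θ T') (preimg θ P'),
        χ x ∈ normalizerIn (preimg θ T') (preimg θ Q') := by
  haveI := h.finT'
  have hPT := IsConj.le_left hc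
  have hQT := IsConj.le_right hc
  obtain ⟨g1, g2⟩ := good_of_fullyNormalized p h.pT' h.nml.1.1 hfn
  obtain ⟨φ, hφ, hφN, hφm⟩ := exists_map_normalizer p h.pT' g1 g2 hc
  obtain ⟨u, hu, hue⟩ := Mor.of_mem hφ
  obtain ⟨χ, hχ, hχr⟩ := h.exists_gen_lift hu
  have hPN : P' ≤ normalizerIn T' P' := le_normalizerIn hPT
  have hui : Im u P' Q' := hφm ▸ NormExt.mor_map (fun x => (hue x).symm) hPN
  have hmono : preimg θ P' ≤ preimg θ (normalizerIn T' P') := preimg_mono hPN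
  refine ⟨χ, h.normalizer_R hPT ▸ hχ,
    h.im_preimg (hPT.trans h.TS') (hQT.trans h.TS') ((h.gen_mor hχ).1.mono hmono) hui
      (hχr.mono hmono), fun x hx => ?_⟩
  rw [← h.normalizer_R hPT] at hx
  rw [← h.normalizer_R hQT]
  refine mem_preimg_q.2 ⟨(h.gen_mor hχ).1.mem_S hx, ?_⟩
  rw [hχr x hx, hue ⟨_, (mem_preimg_q.1 hx).2⟩]
  exact hφN _

end Setup

end CfsgLib.CentLift
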