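import Cfsg.Agent.Fusion.CentralLift.Basic

/-!
Lifts of `Aut_E(Q)` generated by `Aut_R(Q)` and elements of order prime to `p` meet the kernel of the
action on the quotient in inner automorphisms only (a transfer argument).
-/

set_option autoImplicit false
set_option linter.style.haveILetI false
set_option linter.unusedSectionVars false

open Cfsg Cfsg.FusionSystem CfsgLib.Fusion CfsgLib.FocCent
open scoped commutatorElement

namespace CfsgLib.CentLift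

variable {Ω : Type*} [Group Ω] {S Z : Subgroup Ω} {Ω' : Type*} [Group Ω'] {S' T' : Subgroup Ω'}
  {θ : S →* Ω'} {F : FusionSystem S} {Fb : FusionSystem S'} {E : FusionSystem T'} {p : ℕ}

namespace Setup

variable [Finite S] [Fact p.Prime] (h : Setup p F Z θ Fb E)
include h

theorem pullA_exists {Q' : Subgroup Ω'} (hQ' : Q' ≤ T') {a : MulAut (preimg θ Q')}
    (ha : a ∈ pullA F θ E (preimg θ Q')) :
    ∃ a' ∈ E.autGroup Q', ∀ x : preimg θ Q', q θ ((a x : preimg θ Q') : Ω) = extAut a' (q θ (x : Ω)) := by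
  have hQS' : Q' ≤ S' := hQ'.trans h.TS'
  obtain ⟨m', hm', hme⟩ := ha.2
  obtain ⟨u, hu, hui, hue⟩ :=
    exists_mor_of_aut (F := E) ((h.img_preimg' hQS').le.trans hQ') hm'
  rw [h.img_preimg' hQS'] at hu hui
  obtain ⟨α, hα, hαu⟩ := hu.exists_aut le_rfl hui
  refine ⟨α, hα, fun x => ?_⟩
  rw [hme x, extAut_of_mem _ (q_mem_img (preimg_le Q') x.2), ← hue,
    extAut_of_mem _ (mem_preimg_q.1 x.2).2, hαu]

theorem mem_pullA_of {Q' : Subgroup Ω'} (hQ' : Q' ≤ T') {a : MulAut (preimg θ Q')}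
    (haF : a ∈ F.autGroup (preimg θ Q')) {u : Ω' → Ω'} (hu : Mor E Q' u) (hui : Im u Q' Q')
    (hr : ∀ x : preimg θ Q', q θ ((a x : preimg θ Q') : Ω) = u (q θ (x : Ω))) :
    a ∈ pullA F θ E (preimg θ Q') := by
  rw [← h.img_preimg' (hQ'.trans h.TS')] at hu hui
  obtain ⟨α, hα, hαu⟩ := hu.exists_aut le_rfl hui
  refine ⟨haF, α, hα, fun x => ?_⟩
  rw [hr x, extAut_of_mem _ (q_mem_img (preimg_le Q') x.2), hαu]

theorem rel_unique {Q' : Subgroup Ω'} (hQ' : Q' ≤ S') {a : MulAut (preimg θ Q')} {a' b' : MulAut Q'}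
    (ha : ∀ x : preimg θ Q', q θ ((a x : preimg θ Q') : Ω) = extAut a' (q θ (x : Ω)))
    (hb : ∀ x : preimg θ Q', q θ ((a x : preimg θ Q') : Ω) = extAut b' (q θ (x : Ω))) : a' = b' := by
  refine MulEquiv.ext fun y => Subtype.ext ?_
  obtain ⟨x, hx, hxy⟩ := h.surj (hQ' y.2)
  have hxQ : x ∈ preimg θ Q' := mem_preimg_q.2 ⟨hx, hxy ▸ y.2⟩
  have e := (ha ⟨x, hxQ⟩).symm.trans (hb ⟨x, hxQ⟩)
  rwa [hxy, extAut_of_mem _ y.2, extAut_of_mem _ y.2] at e

theorem preimg_T_le : preimg θ T' ≤ S := preimg_le T'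

/-- An element of `R` normalizing `Q` induces a lift of a conjugation of the quotient. -/
theorem induced_rel {Q' : Subgroup Ω'} (hQ' : Q' ≤ T') {r : Ω}
    (hr : r ∈ normalizerIn (preimg θ T') (preimg θ Q')) :
    q θ r ∈ normalizerIn T' Q' ∧ ∀ x ∈ preimg θ Q', q θ (r * x * r⁻¹) = q θ r * q θ x * (q θ r)⁻¹ := by
  obtain ⟨hrS, hrT⟩ := mem_preimg_q.1 hr.1
  refine ⟨⟨hrT, ?_⟩, fun x hx => q_conj hrS (preimg_le Q' hx)⟩
  have h1 : r ∈ preimg θ (normalizerIn S' Q') := by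
    rw [h.preimg_normalizer (hQ'.trans h.TS')]
    exact ⟨hrS, hr.2⟩
  exact (mem_preimg_q.1 h1).2.2

theorem exists_lift_normalizer {Q' : Subgroup Ω'} (hQ' : Q' ≤ T') {t : Ω'}
    (ht : t ∈ normalizerIn T' Q') :
    ∃ r ∈ normalizerIn (preimg θ T') (preimg θ Q'), q θ r = t := by
  obtain ⟨r, hrS, rfl⟩ := h.surj (h.TS' ht.1)
  have h1 : r ∈ preimg θ (normalizerIn S' Q') := mem_preimg_q.2 ⟨hrS, h.TS' ht.1, ht.2⟩
  rw [h.preimg_normalizer (hQ'.trans h.TS')] at h1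
  exact ⟨r, ⟨mem_preimg_q.2 ⟨hrS, ht.1⟩, h1.2⟩, rfl⟩

theorem autInduced_le_pullA {Q' : Subgroup Ω'} (hQ' : Q' ≤ T') :
    autInducedBy (preimg θ T') (preimg θ Q') ≤ pullA F θ E (preimg θ Q') := by
  intro a ha
  obtain ⟨r, hr, hre⟩ := mem_autInducedBy.1 ha
  have hrN : r ∈ normalizerIn (preimg θ T') (preimg θ Q') := ⟨hr, mem_normalizer_of_aut hre⟩
  obtain ⟨hq, hqe⟩ := h.induced_rel hQ' hrN
  refine h.mem_pullA_of hQ' (autInducedBy_le_autGroup (preimg_le Q')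
    (autInducedBy_mono (preimg_le T') _ ha)) (Mor.conj_mor hQ' hq.1) (fun y => ?_) fun x => ?_
  · constructor
    · intro hy
      exact ⟨_, (Subgroup.mem_normalizer_iff''.1 hq.2 y).1 hy, by group⟩
    · rintro ⟨x, hx, rfl⟩
      exact (Subgroup.mem_normalizer_iff.1 hq.2 x).1 hx
  · rw [hre]
    exact hqe _ x.2

/-- Conjugates of `Aut_R(Q)` by lifts of `Aut_E(Q)` that are induced by `R` modulo the kernel lie in
`Aut_R(Q)`. -/
theorem conj_induced {Q' : Subgroup Ω'} (hQ' : E.IsCentric Q') (hfn : E.IsFullyNormalized Q')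
    {m a : MulAut (preimg θ Q')} (hm : m ∈ pullA F θ E (preimg θ Q'))
    (ha : a ∈ autInducedBy (preimg θ T') (preimg θ Q')) {r₃ : Ω}
    (hr₃ : r₃ ∈ normalizerIn (preimg θ T') (preimg θ Q'))
    (hq : ∀ x : preimg θ Q',
      q θ (((m * a * m⁻¹) x : preimg θ Q') : Ω) = q θ (r₃ * (x : Ω) * r₃⁻¹)) :
    m * a * m⁻¹ ∈ autInducedBy (preimg θ T') (preimg θ Q') := by
  haveI := h.finT'
  obtain ⟨m', hm', hme⟩ := h.pullA_exists hQ'.1 hm
  obtain ⟨r, hr, hre⟩ := mem_autInducedBy.1 ha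
  have hrN : r ∈ normalizerIn (preimg θ T') (preimg θ Q') := ⟨hr, mem_normalizer_of_aut hre⟩
  obtain ⟨ht, hte⟩ := h.induced_rel hQ'.1 hrN
  obtain ⟨ht₃, ht₃e⟩ := h.induced_rel hQ'.1 hr₃
  have hrec := (good_of_fullyNormalized p h.pT' h.nml.1.1 hfn).2
  let φm := Q'.subtype.comp m'.toMonoidHom
  have hφm : φm ∈ E.Hom Q' := (autGroup_carrier hQ'.1).1 hm'
  have hext : q θ r ∈ extender T' Q' φm := by
    refine mem_extender_of ht ht₃.1 fun y hy => ?_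
    obtain ⟨x, hxS, hxy⟩ := h.surj (h.TS' (hQ'.1 y.2 : (y : Ω') ∈ T'))
    have hxQ : x ∈ preimg θ Q' := mem_preimg_q.2 ⟨hxS, hxy ▸ y.2⟩
    have e := hq (m ⟨x, hxQ⟩)
    rw [MulAut.mul_apply, MulAut.inv_apply_self, MulAut.mul_apply, hme, hre,
      ht₃e _ (m ⟨x, hxQ⟩).2, hme] at e
    simp only [hte x hxQ, hxy] at e
    rw [extAut_of_mem _ hy, extAut_of_mem _ y.2] at e
    exact e
  have hle : Q' ⊔ Subgroup.zpowers (q θ r) ≤ extender T' Q' φm :=
    sup_le (le_extender hφm) (Subgroup.zpowers_le.2 hext)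
  obtain ⟨ψ, hψ, hψe⟩ := receptive_extend hrec hφm (range_subtype_comp _) hle
  obtain ⟨f', hf', hf'e⟩ := Mor.of_mem hψ
  have hf'Q : ∀ y (hy : y ∈ Q'), f' y = ((m' ⟨y, hy⟩ : Q') : Ω') := fun y hy =>
    (hf'e ⟨y, Subgroup.mem_sup_left hy⟩).trans (hψe y hy _)
  obtain ⟨ε, hε, hεr⟩ := h.lift (mor_of_subsystem h.inv.1 hf')
  have hQV : preimg θ Q' ≤ preimg θ (Q' ⊔ Subgroup.zpowers (q θ r)) := preimg_mono le_sup_left
  have hQS' : Q' ≤ S' := hQ'.1.trans h.TS'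
  have hfi : Im f' Q' Q' := fun y => by
    constructor
    · intro hy
      refine ⟨_, (m'⁻¹ ⟨y, hy⟩).2, ?_⟩
      rw [hf'Q _ (m'⁻¹ ⟨y, hy⟩).2]
      exact congrArg Subtype.val (MulAut.apply_inv_self Q' m' ⟨y, hy⟩)
    · rintro ⟨x, hx, rfl⟩
      rw [hf'Q x hx]
      exact SetLike.coe_mem _
  have hεi := h.im_preimg hQS' hQS' (hε.mono hQV) hfi (hεr.mono hQV)
  obtain ⟨e1, he1, he1e⟩ := hε.exists_aut hQV hεi
  have he1q : ∀ x : preimg θ Q', q θ ((e1 x : preimg θ Q') : Ω) = extAut m' (q θ (x : Ω)) := fun x => by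
    rw [he1e, hεr _ (hQV x.2), hf'Q _ (mem_preimg_q.1 x.2).2,
      extAut_of_mem _ (mem_preimg_q.1 x.2).2]
  have hk : e1⁻¹ * m ∈ kerA F θ (preimg θ Q') := by
    refine ⟨mul_mem (Subgroup.inv_mem _ he1) hm.1, fun x => ?_⟩
    have e := he1q ((e1⁻¹ * m) x)
    rw [MulAut.mul_apply, MulAut.apply_inv_self, hme] at e
    have e' := congrArg (extAut m'⁻¹) e
    rw [extAut_inv_apply, extAut_inv_apply] at e'
    exact e'.symm
  have hcomm := h.comm_mem_inn hQ' (h.autInduced_le_pullA hQ'.1 ha) hk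
  obtain ⟨v, hv⟩ := hcomm
  -- `k a k⁻¹` is conjugation by `v⁻¹ r`
  have hconj : ∀ x : preimg θ Q', (((e1⁻¹ * m) * a * (e1⁻¹ * m)⁻¹) x : Ω) =
      (v : Ω)⁻¹ * r * x * ((v : Ω)⁻¹ * r)⁻¹ := by
    have h1 : (e1⁻¹ * m) * a * (e1⁻¹ * m)⁻¹ = (MulAut.conj v)⁻¹ * a := by
      rw [show MulAut.conj v = _ from hv]; group
    intro x
    rw [h1, ← map_inv, MulAut.mul_apply, MulAut.conj_apply, inv_inv, Subgroup.coe_mul,
      Subgroup.coe_mul, InvMemClass.coe_inv, hre]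
    group
  have hvS : (v : Ω) ∈ S := preimg_le Q' v.2
  have hrS : r ∈ S := preimg_le T' hr
  have hrV : (v : Ω)⁻¹ * r ∈ preimg θ (Q' ⊔ Subgroup.zpowers (q θ r)) :=
    mul_mem (inv_mem (hQV v.2)) (mem_preimg_q.2 ⟨hrS, Subgroup.mem_sup_right (Subgroup.mem_zpowers _)⟩)
  refine mem_autInducedBy.2 ⟨ε ((v : Ω)⁻¹ * r), mem_preimg_q.2 ⟨hε.mem_S hrV, ?_⟩, fun x => ?_⟩
  · rw [hεr _ hrV]
    exact hf'.mem_S (mem_preimg_q.1 hrV).2
  obtain ⟨w, rfl⟩ := e1.surjective x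
  have h2 : m * a * m⁻¹ = e1 * ((e1⁻¹ * m) * a * (e1⁻¹ * m)⁻¹) * e1⁻¹ := by group
  rw [h2, MulAut.mul_apply, MulAut.inv_apply_self, MulAut.mul_apply, he1e, hconj, he1e,
    hε.map_conj hrV (hQV w.2)]

/-- Elements of the kernel generated by `Aut_R(Q)` and lifts of order prime to `p` are inner. -/
theorem kernel_inner {Q' : Subgroup Ω'} (hQ' : E.IsCentric Q') (hfn : E.IsFullyNormalized Q')
    {b : MulAut (preimg θ Q')}
    (hb : b ∈ Subgroup.closure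
      ((autInducedBy (preimg θ T') (preimg θ Q') : Set (MulAut (preimg θ Q'))) ∪
        {a | a ∈ pullA F θ E (preimg θ Q') ∧ (orderOf a).Coprime p}))
    (hbk : b ∈ kerA F θ (preimg θ Q')) : b ∈ Inn (preimg θ Q') := by
  haveI := h.finT'
  have hQT := hQ'.1
  have hQS : preimg θ Q' ≤ S := preimg_le Q'
  haveI : Finite (preimg θ Q') := finite_of_le hQS
  haveI : Finite (MulAut (preimg θ Q')) := finite_mulAut
  haveI : Finite Q' := finite_of_le hQT
  haveI : Finite (MulAut Q') := finite_mulAut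
  obtain ⟨⟨-, RE, hRE⟩, -⟩ := good_of_fullyNormalized p h.pT' h.nml.1.1 hfn
  let G := pullA F θ E (preimg θ Q')
  let A₁ := (autInducedBy (preimg θ T') (preimg θ Q')).subgroupOf G
  let K := (kerA F θ (preimg θ Q')).subgroupOf G
  haveI hKn : K.Normal := ⟨fun k hk g => h.kerA_normal hQS g.2.1 hk⟩
  have hA₁p : IsPGroup p A₁ :=
    (isPGroup_autInducedBy (isPGroup_of_le h.hS (preimg_le T')) _).comap_of_injective G.subtype
      Subtype.val_injective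
  have hKp : IsPGroup p K :=
    (h.kerA_isPGroup hQS).comap_of_injective G.subtype Subtype.val_injective
  obtain ⟨Syl, hSyl⟩ := (hA₁p.to_sup_of_normal_right hKp).exists_le_sylow
  -- the image of the Sylow subgroup
  let M : Subgroup (E.autGroup Q') :=
    { carrier := {a' | ∃ a ∈ (Syl : Subgroup G), ∀ x : preimg θ Q',
        q θ (((a : MulAut (preimg θ Q')) x : preimg θ Q') : Ω) =
          extAut (a' : MulAut Q') (q θ (x : Ω))}
      one_mem' := ⟨1, one_mem _, fun _ => (extAut_one _).symm⟩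
      mul_mem' := fun {a' b'} ⟨a, ha, hae⟩ ⟨c, hc, hce⟩ => ⟨a * c, mul_mem ha hc, fun x => by
        show _ = extAut ((a' : MulAut Q') * (b' : MulAut Q')) _
        rw [extAut_mul, ← hce x]
        exact hae _⟩
      inv_mem' := fun {a'} ⟨a, ha, hae⟩ => ⟨a⁻¹, inv_mem ha, fun x => by
        show _ = extAut (a' : MulAut Q')⁻¹ _
        conv_rhs => rw [← MulAut.apply_inv_self _ (a : MulAut (preimg θ Q')) x, hae, extAut_inv_apply]
        rfl⟩ }
  have hMp : IsPGroup p M := by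
    rintro ⟨a', a, ha, hae⟩
    obtain ⟨k, hk⟩ := Syl.2 ⟨a, ha⟩
    refine ⟨k, Subtype.ext (Subtype.ext (h.rel_unique (hQT.trans h.TS')
      (a := (a : MulAut (preimg θ Q')) ^ p ^ k) (fun x => ?_) fun x => ?_))⟩
    · show _ = extAut ((a' : MulAut Q') ^ p ^ k) _
      induction p ^ k generalizing x with
      | zero => exact (extAut_one _).symm
      | succ n ih =>
        rw [pow_succ', pow_succ', MulAut.mul_apply, extAut_mul, hae, ih]
    · rw [show (a : MulAut (preimg θ Q')) ^ p ^ k = 1 from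
        congrArg (fun z : (Syl : Subgroup G) => ((z : G) : MulAut (preimg θ Q'))) hk]
      exact (extAut_one _).symm
  have hREM : (RE : Subgroup (E.autGroup Q')) ≤ M := by
    intro a' ha'
    rw [hRE, Subgroup.mem_subgroupOf] at ha'
    obtain ⟨t, ht, hte⟩ := mem_autInducedBy.1 ha'
    obtain ⟨r, hr, hrq⟩ := h.exists_lift_normalizer hQT ⟨ht, mem_normalizer_of_aut hte⟩
    have ha : conjAut (preimg θ T') (preimg θ Q') ⟨r, hr⟩ ∈
        autInducedBy (preimg θ T') (preimg θ Q') := mem_autInducedBy.2 ⟨r, hr.1, fun _ => rfl⟩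
    refine ⟨⟨_, h.autInduced_le_pullA hQT ha⟩, hSyl (Subgroup.mem_sup_left ha), fun x => ?_⟩
    rw [extAut_of_mem _ (mem_preimg_q.1 x.2).2, hte]
    show q θ (r * (x : Ω) * r⁻¹) = _
    rw [(h.induced_rel hQT hr).2 _ x.2, hrq]
  have hM : M = (RE : Subgroup (E.autGroup Q')) := RE.3 hMp hREM
  have hP1 : (Syl : Subgroup G) = A₁ ⊔ K := by
    refine le_antisymm (fun a ha => ?_) hSyl
    obtain ⟨a', ha', hae⟩ := h.pullA_exists hQT a.2
    have hm : (⟨a', ha'⟩ : E.autGroup Q') ∈ M := ⟨a, ha, hae⟩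
    rw [hM, hRE, Subgroup.mem_subgroupOf] at hm
    obtain ⟨t, ht, hte⟩ := mem_autInducedBy.1 hm
    obtain ⟨r, hr, hrq⟩ := h.exists_lift_normalizer hQT ⟨ht, mem_normalizer_of_aut hte⟩
    have hc : conjAut (preimg θ T') (preimg θ Q') ⟨r, hr⟩ ∈
        autInducedBy (preimg θ T') (preimg θ Q') := mem_autInducedBy.2 ⟨r, hr.1, fun _ => rfl⟩
    let c : G := ⟨_, h.autInduced_le_pullA hQT hc⟩
    rw [show a = c * (c⁻¹ * a) by group]
    refine mul_mem (Subgroup.mem_sup_left hc) (Subgroup.mem_sup_right ?_)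
    refine ⟨mul_mem (Subgroup.inv_mem _ (autInducedBy_le_autGroup hQS
      (autInducedBy_mono (preimg_le T') _ hc))) a.2.1, fun x => ?_⟩
    obtain ⟨hrS, -⟩ := mem_preimg_q.1 hr.1
    have e1 : q θ (r * ((((c⁻¹ * a : G) : MulAut (preimg θ Q')) x : preimg θ Q') : Ω) * r⁻¹) =
        q θ (r * (x : Ω) * r⁻¹) := by
      rw [(h.induced_rel hQT hr).2 _ x.2, hrq, ← hte ⟨_, (mem_preimg_q.1 x.2).2⟩,
        ← extAut_of_mem a' (mem_preimg_q.1 x.2).2, ← hae x]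
      refine congrArg (q θ) ?_
      show ((((c : MulAut (preimg θ Q')) ((c : MulAut (preimg θ Q'))⁻¹
        ((a : MulAut (preimg θ Q')) x))) : preimg θ Q') : Ω) = _
      rw [MulAut.apply_inv_self]
    rw [q_conj hrS (hQS (SetLike.coe_mem _)), q_conj hrS (hQS x.2)] at e1
    exact mul_left_cancel (mul_right_cancel e1)
  -- the focal subgroup
  have hA₁Syl : A₁ ≤ (Syl : Subgroup G) := hP1 ▸ le_sup_left
  have hstable : ∀ u a : G, a ∈ A₁ → u * a * u⁻¹ ∈ (Syl : Subgroup G) → u * a * u⁻¹ ∈ A₁ := by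
    intro u a ha hu
    rw [hP1, Subgroup.mem_sup_of_normal_right] at hu
    obtain ⟨c, hc, k, hk, hck⟩ := hu
    obtain ⟨r, hr, hre⟩ := mem_autInducedBy.1 (Subgroup.mem_subgroupOf.1 hc)
    refine h.conj_induced hQ' hfn u.2 ha ⟨hr, mem_normalizer_of_aut hre⟩ fun x => ?_
    have e : ((u : MulAut (preimg θ Q')) * a * (u : MulAut (preimg θ Q'))⁻¹) =
        (c : MulAut (preimg θ Q')) * k := congrArg Subtype.val hck.symm
    rw [e, MulAut.mul_apply, hre]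
    obtain ⟨hrS, -⟩ := mem_preimg_q.1 hr
    rw [q_conj hrS (hQS (SetLike.coe_mem _)), q_conj hrS (hQS x.2), (Subgroup.mem_subgroupOf.1 hk).2 x]
  have hinn : ∀ u : G, (u : MulAut (preimg θ Q')) ∈ Inn (preimg θ Q') → u ∈ A₁ := fun u hu =>
    autInducedBy_mono (preimg_mono hQT) _ (inn_eq_autInducedBy (preimg θ Q') ▸ hu)
  have hfoc : Subgroup.focalSubgroup (Syl : Subgroup G) ≤ A₁ := by
    rw [Subgroup.focalSubgroup_def, Subgroup.closure_le]
    rintro _ ⟨hcx, x, hx, u, rfl⟩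
    have hy : u * x⁻¹ * u⁻¹ ∈ (Syl : Subgroup G) := by
      have := mul_mem (inv_mem hx) hcx
      simpa [commutatorElement_def, mul_assoc] using this
    rw [hP1, Subgroup.mem_sup_of_normal_right] at hx
    obtain ⟨a, ha, k, hk, rfl⟩ := hx
    have hk' : u * k⁻¹ * u⁻¹ ∈ (Syl : Subgroup G) :=
      hP1.ge (Subgroup.mem_sup_right (hKn.conj_mem _ (inv_mem hk) u))
    have ha' : u * a⁻¹ * u⁻¹ ∈ A₁ := by
      refine hstable u a⁻¹ (inv_mem ha) ?_
      have := mul_mem (inv_mem hk') hy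
      simpa [mul_assoc] using this
    have hmid : k * u * k⁻¹ * u⁻¹ ∈ A₁ := by
      refine hinn _ ?_
      have := Subgroup.inv_mem _ (h.comm_mem_inn hQ' u.2 (Subgroup.mem_subgroupOf.1 hk))
      simpa [mul_assoc] using this
    have := mul_mem (mul_mem ha hmid) ha'
    rw [show ⁅a * k, u⁆ = a * (k * u * k⁻¹ * u⁻¹) * (u * a⁻¹ * u⁻¹) by
      rw [commutatorElement_def]; group]
    exact this
  obtain ⟨K₀, hK₀n, hAK₀, hK₀S, hK₀p⟩ :=
    ConstrainedNormal.exists_kernel Syl A₁ hA₁Syl hfoc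
  have hle : Subgroup.closure
      ((autInducedBy (preimg θ T') (preimg θ Q') : Set (MulAut (preimg θ Q'))) ∪
        {a | a ∈ pullA F θ E (preimg θ Q') ∧ (orderOf a).Coprime p}) ≤ K₀.map G.subtype := by
    rw [Subgroup.closure_le]
    rintro a (ha | ⟨ha, hco⟩)
    · exact ⟨⟨a, h.autInduced_le_pullA hQT ha⟩, hAK₀ ha, rfl⟩
    · exact ⟨⟨a, ha⟩, hK₀p _ (by rwa [← Subgroup.orderOf_coe]), rfl⟩
  obtain ⟨b₀, hb₀, rfl⟩ := hle hb
  have hbA : b₀ ∈ A₁ := hK₀S b₀ hb₀ (hP1.ge (Subgroup.mem_sup_right hbk))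
  obtain ⟨v, hv, hve⟩ := mem_autInducedBy.1 (Subgroup.mem_subgroupOf.1 hbA)
  obtain ⟨hvS, hvT⟩ := mem_preimg_q.1 hv
  have hvQ : q θ v ∈ centralizerIn T' Q' := by
    refine mem_centralizerIn.2 ⟨hvT, fun y hy => ?_⟩
    obtain ⟨x, hxS, rfl⟩ := h.surj (h.TS' (hQT hy))
    have hxQ : x ∈ preimg θ Q' := mem_preimg_q.2 ⟨hxS, hy⟩
    have e := (congrArg (q θ) (hve ⟨x, hxQ⟩)).symm.trans (hbk.2 ⟨x, hxQ⟩)
    rw [q_conj hvS hxS] at e
    exact (mul_inv_eq_iff_eq_mul.1 e).symm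
  rw [inn_eq_autInducedBy, mem_autInducedBy]
  exact ⟨v, mem_preimg_q.2 ⟨hvS, hQ'.2 Q' (isConj_refl hQT) hvQ⟩, hve⟩

end Setup

end CfsgLib.CentLift
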