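import Cfsg.Agent.Fusion.CentralLift.Unique
import Cfsg.Agent.Fusion.HGen.Main
import Cfsg.Agent.Fusion.LocalModels
import Cfsg.Agent.Solvable.Basics

/-!
The generated lifts form a saturated system.
-/

set_option autoImplicit false
set_option linter.style.haveILetI false
set_option linter.unusedSectionVars false

open Cfsg Cfsg.FusionSystem CfsgLib.Fusion CfsgLib.FocCent

namespace CfsgLib.CentLift

variable {Ω : Type*} [Group Ω] {S Z : Subgroup Ω} {Ω' : Type*} [Group Ω'] {S' T' : Subgroup Ω'}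
  {θ : S →* Ω'} {F : FusionSystem S} {Fb : FusionSystem S'} {E : FusionSystem T'} {p : ℕ}

namespace Setup

variable [Finite S] [Fact p.Prime] (h : Setup p F Z θ Fb E)
include h

/-- The system of the generated maps. -/
def liftSystem : FusionSystem (preimg θ T') where
  Hom P := {φ | ∃ f, Gen p F θ E P f ∧ ∀ x : P, φ x = f x}
  le_of_mem := by
    rintro P φ ⟨f, hf, e⟩
    exact ⟨(h.gen_mor hf).2.1, fun x => (e x).symm ▸ (h.gen_mor hf).2.2 x x.2⟩
  injective_of_mem := by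
    rintro P φ ⟨f, hf, e⟩ a b hab
    exact Subtype.ext ((h.gen_mor hf).1.inj a.2 b.2 (by rw [← e a, ← e b, hab]))
  conj_mem {P g} hP hg := ⟨_, Gen.conj hP hg, fun _ => rfl⟩
  comp_mem := by
    rintro P Q φ ψ ⟨f, hf, e⟩ ⟨g, hg, e'⟩ hm
    refine ⟨g ∘ f, Gen.comp hf (fun x hx => (e ⟨x, hx⟩) ▸ hm ⟨x, hx⟩) hg, fun x => ?_⟩
    show ψ ⟨φ x, _⟩ = g (f x)
    rw [e', ← e x]
  inv_mem := by
    rintro P φ ⟨f, hf, e⟩
    have hi : Im f P φ.range := fun y =>
      ⟨fun ⟨x, hx⟩ => ⟨x, x.2, (e x).symm.trans hx⟩, fun ⟨x, hx, he⟩ => ⟨⟨x, hx⟩, (e _).trans he⟩⟩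
    obtain ⟨g, hg, -, hge⟩ := h.gen_inv hf hi
    obtain ⟨ψ, -, hψe⟩ := (h.gen_mor hg).1
    exact ⟨ψ, ⟨g, hg, hψe⟩, fun x => by rw [hψe]; show g (φ x) = x; rw [e x]; exact hge x x.2⟩

theorem mor_iff {P : Subgroup Ω} {f : Ω → Ω} : Mor h.liftSystem P f ↔ Gen p F θ E P f := by
  constructor
  · rintro ⟨φ, ⟨g, hg, e⟩, hφ⟩
    exact Gen.congr hg fun x hx => (hφ ⟨x, hx⟩).symm.trans (e ⟨x, hx⟩)
  · intro hf
    obtain ⟨φ, -, hφ⟩ := (h.gen_mor hf).1
    exact ⟨φ, ⟨f, hf, hφ⟩, hφ⟩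

theorem liftSystem_sub : h.liftSystem.IsSubsystemOf F := by
  rintro P φ ⟨f, hf, e⟩
  obtain ⟨ψ, hψ, hψe⟩ := (h.gen_mor hf).1
  exact restrict_mem_of_eq hψ le_rfl fun x => (e x).trans (hψe x).symm

/-- An automorphism of the lift system in the kernel is inner. -/
theorem liftSystem_kernel {Q' : Subgroup Ω'} (hQ : E.IsCentric Q') {a : MulAut (preimg θ Q')}
    (ha : a ∈ h.liftSystem.autGroup (preimg θ Q'))
    (hq : ∀ x : preimg θ Q', q θ ((a x : preimg θ Q') : Ω) = q θ (x : Ω)) :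
    a ∈ autInducedBy (preimg θ T') (preimg θ Q') := by
  obtain ⟨f, hf, -, hfe⟩ := exists_mor_of_aut (preimg_mono hQ.1) ha
  obtain ⟨u, hu, hue⟩ := h.uniq hQ f (h.mor_iff.1 hf) fun x hx => by
    rw [hfe ⟨x, hx⟩]; exact hq ⟨x, hx⟩
  exact mem_autInducedBy.2 ⟨u, preimg_mono hQ.1 hu, fun x => (hfe x).symm.trans (hue x x.2)⟩

theorem fullyAutomized_lift {Q' : Subgroup Ω'} (hQ : E.IsCentric Q') (hfn : E.IsFullyNormalized Q') :
    h.liftSystem.IsFullyAutomized p (preimg θ Q') := by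
  haveI := h.finT'
  have hQT := hQ.1
  have hQR : preimg θ Q' ≤ preimg θ T' := preimg_mono hQT
  haveI : Finite (preimg θ T') := finite_of_le (preimg_le T')
  haveI : Finite (preimg θ Q') := finite_of_le (preimg_le Q')
  haveI : Finite (MulAut (preimg θ Q')) := finite_mulAut
  haveI : Finite Q' := finite_of_le hQT
  haveI : Finite (MulAut Q') := finite_mulAut
  obtain ⟨⟨-, RE, hRE⟩, -⟩ := good_of_fullyNormalized p h.pT' h.nml.1.1 hfn
  let G := h.liftSystem.autGroup (preimg θ Q')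
  let A₁ := (autInducedBy (preimg θ T') (preimg θ Q')).subgroupOf G
  have hA₁p : IsPGroup p A₁ :=
    (isPGroup_autInducedBy (isPGroup_of_le h.hS (preimg_le T')) _).comap_of_injective G.subtype
      Subtype.val_injective
  obtain ⟨Syl, hSyl⟩ := hA₁p.exists_le_sylow
  refine ⟨hQR, Syl, le_antisymm (fun a ha => ?_) hSyl⟩
  -- the image of the Sylow subgroup
  let M : Subgroup (E.autGroup Q') :=
    { carrier := {a' | ∃ a ∈ (Syl : Subgroup G), ∀ x : preimg θ Q',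
        q θ (((a : MulAut (preimg θ Q')) x : preimg θ Q') : Ω) =
          extAut (a' : MulAut Q') (q θ (x : Ω))}
      one_mem' := ⟨1, one_mem _, fun _ => (extAut_one _).symm⟩
      mul_mem' := fun {a' b'} ⟨a, ha, hae⟩ ⟨c, hc, hce⟩ => ⟨a * c, mul_mem ha hc, fun x => by
        show _ = extAut ((a' : MulAut Q') * (b' : MulAut Q')) _
        rw [extAut_mul, ← hce x]
        exact hae _⟩
      inv_mem' := fun {a'} ⟨a, ha, hae⟩ => ⟨a⁻¹, inv_mem ha, fun x => by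
        show _ = extAut (a' : MulAut Q')⁻¹ _
        conv_rhs => rw [← MulAut.apply_inv_self _ (a : MulAut (preimg θ Q')) x, hae, extAut_inv_apply]
        rfl⟩ }
  have hMp : IsPGroup p M := by
    rintro ⟨a', a, ha, hae⟩
    obtain ⟨k, hk⟩ := Syl.2 ⟨a, ha⟩
    refine ⟨k, Subtype.ext (Subtype.ext (h.rel_unique (hQT.trans h.TS')
      (a := (a : MulAut (preimg θ Q')) ^ p ^ k) (fun x => ?_) fun x => ?_))⟩
    · show _ = extAut ((a' : MulAut Q') ^ p ^ k) _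
      induction p ^ k generalizing x with
      | zero => exact (extAut_one _).symm
      | succ n ih =>
        rw [pow_succ', pow_succ', MulAut.mul_apply, extAut_mul, hae, ih]
    · rw [show (a : MulAut (preimg θ Q')) ^ p ^ k = 1 from
        congrArg (fun z : (Syl : Subgroup G) => ((z : G) : MulAut (preimg θ Q'))) hk]
      exact (extAut_one _).symm
  have hREM : (RE : Subgroup (E.autGroup Q')) ≤ M := by
    intro a' ha'
    rw [hRE, Subgroup.mem_subgroupOf] at ha'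
    obtain ⟨t, ht, hte⟩ := mem_autInducedBy.1 ha'
    obtain ⟨r, hr, hrq⟩ := h.exists_lift_normalizer hQT ⟨ht, mem_normalizer_of_aut hte⟩
    have hc : conjAut (preimg θ T') (preimg θ Q') ⟨r, hr⟩ ∈
        autInducedBy (preimg θ T') (preimg θ Q') := mem_autInducedBy.2 ⟨r, hr.1, fun _ => rfl⟩
    refine ⟨⟨_, autInducedBy_le_autGroup hQR hc⟩, hSyl hc, fun x => ?_⟩
    rw [extAut_of_mem _ (mem_preimg_q.1 x.2).2, hte]
    show q θ (r * (x : Ω) * r⁻¹) = _
    rw [(h.induced_rel hQT hr).2 _ x.2, hrq]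
  have hM : M = (RE : Subgroup (E.autGroup Q')) := RE.3 hMp hREM
  obtain ⟨f, hf, hfi, hfe⟩ := exists_mor_of_aut hQR a.2
  obtain ⟨f', hf', hfr⟩ := h.gen_rel (h.mor_iff.1 hf)
  rw [h.img_preimg' (hQT.trans h.TS')] at hf'
  have hfi' : Im f' Q' Q' := by
    have := h.im_img (preimg_le Q') (preimg_le Q') hfi hfr
    rwa [h.img_preimg' (hQT.trans h.TS')] at this
  obtain ⟨a', ha', hae'⟩ := hf'.exists_aut le_rfl hfi'
  have hae : ∀ x : preimg θ Q', q θ (((a : MulAut (preimg θ Q')) x : preimg θ Q') : Ω) =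
      extAut a' (q θ (x : Ω)) := fun x => by
    rw [← hfe x, hfr _ x.2, extAut_of_mem _ (mem_preimg_q.1 x.2).2, hae']
  have hm : (⟨a', ha'⟩ : E.autGroup Q') ∈ M := ⟨a, ha, hae⟩
  rw [hM, hRE, Subgroup.mem_subgroupOf] at hm
  obtain ⟨t, ht, hte⟩ := mem_autInducedBy.1 hm
  obtain ⟨r, hr, hrq⟩ := h.exists_lift_normalizer hQT ⟨ht, mem_normalizer_of_aut hte⟩
  have hc : conjAut (preimg θ T') (preimg θ Q') ⟨r, hr⟩ ∈
      autInducedBy (preimg θ T') (preimg θ Q') := mem_autInducedBy.2 ⟨r, hr.1, fun _ => rfl⟩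
  let c : MulAut (preimg θ Q') := conjAut (preimg θ T') (preimg θ Q') ⟨r, hr⟩
  show (a : MulAut (preimg θ Q')) ∈ autInducedBy (preimg θ T') (preimg θ Q')
  rw [← mul_inv_cancel_left c (a : MulAut (preimg θ Q'))]
  refine mul_mem hc (h.liftSystem_kernel hQ
    (mul_mem (Subgroup.inv_mem _ (autInducedBy_le_autGroup hQR hc)) a.2) fun x => ?_)
  obtain ⟨hrS, -⟩ := mem_preimg_q.1 hr.1
  have e1 : q θ (r * (((c⁻¹ * (a : MulAut (preimg θ Q'))) x : preimg θ Q') : Ω) * r⁻¹) =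
      q θ (r * (x : Ω) * r⁻¹) := by
    rw [(h.induced_rel hQT hr).2 _ x.2, hrq, ← hte ⟨_, (mem_preimg_q.1 x.2).2⟩,
      ← extAut_of_mem a' (mem_preimg_q.1 x.2).2, ← hae x]
    refine congrArg (q θ) ?_
    show (((c (c⁻¹ ((a : MulAut (preimg θ Q')) x))) : preimg θ Q') : Ω) = _
    rw [MulAut.apply_inv_self]
  rw [q_conj hrS (preimg_le Q' (SetLike.coe_mem _)), q_conj hrS (preimg_le Q' x.2)] at e1
  exact mul_left_cancel (mul_right_cancel e1)

theorem receptive_lift {Q' : Subgroup Ω'} (hQ : E.IsCentric Q') (hfn : E.IsFullyNormalized Q') :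
    h.liftSystem.IsReceptive (preimg θ Q') := by
  haveI := h.finT'
  have hQT := hQ.1
  have hQS' : Q' ≤ S' := hQT.trans h.TS'
  haveI : Finite (preimg θ T') := finite_of_le (preimg_le T')
  have hrec := (good_of_fullyNormalized p h.pT' h.nml.1.1 hfn).2
  refine ⟨preimg_mono hQT, fun P φ hφ hr => ?_⟩
  obtain ⟨f, hf, hfe⟩ := id hφ
  obtain ⟨hfF, hPR, hfR⟩ := h.gen_mor hf
  have hPS : P ≤ S := hfF.le_S
  have hfi : Im f P (preimg θ Q') := fun y => by
    rw [← hr]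
    exact ⟨fun ⟨x, hx⟩ => ⟨x, x.2, (hfe x).symm.trans hx⟩,
      fun ⟨x, hx, he⟩ => ⟨⟨x, hx⟩, (hfe _).trans he⟩⟩
  -- `P` is a full preimage
  obtain ⟨f₁, hf₁, hf₁i, -⟩ := h.gen_inv hf hfi
  have hZP : Z ≤ P := h.Z_le_im (h.gen_mor hf₁).1 hf₁i (h.Z_le_preimg Q')
  have hPeq : preimg θ (img θ P) = P := h.preimg_img' hPS hZP
  obtain ⟨f', hf', hfr⟩ := h.gen_rel hf
  have hfi' : Im f' (img θ P) Q' := by
    have := h.im_img hPS (preimg_le Q') hfi hfr
    rwa [h.img_preimg' hQS'] at this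
  have hPT : img θ P ≤ T' := hf'.le_S
  have hPc : E.IsCentric (img θ P) :=
    isCentric_of_isConj hQ (isConj_symm (hf'.isConj le_rfl hfi'))
  have hNR : extender (preimg θ T') P φ ≤ preimg θ T' := extender_le_S _ _
  have hPN : P ≤ extender (preimg θ T') P φ := le_extender hφ
  have hNS := hNR.trans (preimg_le T')
  obtain ⟨f'', hf'', hf''e⟩ := receptive_mor (N := img θ (extender (preimg θ T') P φ)) hrec hf' hfi'
    fun y hy => by
      obtain ⟨g, hg, rfl⟩ := (mem_img_q hNS).1 hy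
      obtain ⟨hgR, hgP, k, hk, hke⟩ := mem_extender.1 hg
      have hgN : g ∈ normalizerIn (preimg θ T') (preimg θ (img θ P)) := ⟨hgR, hPeq.symm ▸ hgP⟩
      obtain ⟨hgn, hgq⟩ := h.induced_rel hPT hgN
      refine ⟨hgn.1, hgn.2, q θ k, (mem_preimg_q.1 hk).2, fun z hz => ?_⟩
      obtain ⟨x, hx, rfl⟩ := (mem_img_q hPS).1 hz
      have hgx : g * x * g⁻¹ ∈ P := (Subgroup.mem_normalizer_iff.1 hgP x).1 hx
      rw [← hgq x (hPeq.symm ▸ hx), ← hfr _ hgx, ← hfr _ hx, ← hfe ⟨_, hgx⟩, ← hfe ⟨x, hx⟩,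
        hke ⟨x, hx⟩ hgx, q_conj (preimg_le T' hk) (preimg_le Q' (hr.le ⟨⟨x, hx⟩, rfl⟩))]
  obtain ⟨g, hg, hgr⟩ := h.exists_gen_lift hf''
  have hle : extender (preimg θ T') P φ ≤
      preimg θ (img θ (extender (preimg θ T') P φ) ⊔ img θ P) := fun x hx =>
    mem_preimg_q.2 ⟨hNS hx, Subgroup.mem_sup_left (q_mem_img hNS hx)⟩
  have hgN := hg.mono hle
  have hgrP : Rel θ (preimg θ (img θ P)) g f' := fun x hx => by
    rw [hgr x (preimg_mono le_sup_right hx), hf''e _ (mem_preimg_q.1 hx).2]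
  have hgP := hg.mono (preimg_mono (le_sup_right : img θ P ≤ _ ⊔ img θ P))
  have hgi := h.im_preimg (hPT.trans h.TS') hQS' (h.gen_mor hgP).1 hfi' hgrP
  obtain ⟨g₂, hg₂, hg₂i, hg₂e⟩ := h.gen_inv hgP hgi
  obtain ⟨u, hu, hue⟩ := h.uniq hPc (g₂ ∘ f) (Gen.comp (hPeq.symm ▸ hf)
    (fun x hx => hfi.mem (hPeq ▸ hx)) hg₂) fun x hx => by
    have hxP : x ∈ P := hPeq ▸ hx
    have hy : g₂ (f x) ∈ preimg θ (img θ P) := hg₂i.mem (hfi.mem hxP)
    refine hf'.inj (mem_preimg_q.1 hy).2 (mem_preimg_q.1 hx).2 ?_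
    obtain ⟨w, hw, hwe⟩ := hgi.surj (hfi.mem hxP)
    show f' (q θ (g₂ (f x))) = _
    rw [← hwe, hg₂e w hw, ← hgrP w hw, hwe, hfr x hxP]
  have huN : u ∈ extender (preimg θ T') P φ := hPN (hPeq ▸ hu)
  have hψ : Mor h.liftSystem (extender (preimg θ T') P φ) (g ∘ fun x => u * x * u⁻¹) :=
    h.mor_iff.2 (Gen.comp (Gen.conj hNR (hNR huN))
      (fun x hx => mul_mem (mul_mem huN hx) (inv_mem huN)) hgN)
  obtain ⟨ψ, hψm, hψe⟩ := hψ
  refine ⟨ψ, hψm, fun x hx hxN => ?_⟩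
  rw [hψe ⟨x, hxN⟩]
  show g (u * x * u⁻¹) = φ ⟨x, hx⟩
  have hxP : x ∈ preimg θ (img θ P) := hPeq.symm ▸ hx
  rw [← hue x hxP, hfe ⟨x, hx⟩]
  show g (g₂ (f x)) = f x
  obtain ⟨w, hw, hwe⟩ := hgi.surj (hfi.mem hx)
  rw [← hwe, hg₂e w hw]

theorem liftSystem_saturated : h.liftSystem.IsSaturated p := by
  haveI := h.finT'
  have hRS : preimg θ T' ≤ S := preimg_le T'
  haveI : Finite (preimg θ T') := finite_of_le hRS
  refine saturated_of_family p (isPGroup_of_le h.hS hRS) h.liftSystem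
    {P | ∃ P', E.IsCentric P' ∧ P = preimg θ P'} ?_ ?_ ?_ ?_
  · rintro _ ⟨P', hP', rfl⟩ Q hQ
    obtain ⟨f, hf, hfi⟩ := isConj_iff_mor.1 hQ
    rw [h.mor_iff] at hf
    obtain ⟨f', hf', hfr⟩ := h.gen_rel hf
    have hPS' : P' ≤ S' := hP'.1.trans h.TS'
    rw [h.img_preimg' hPS'] at hf'
    obtain ⟨Q', hQ'⟩ := hf'.exists_im le_rfl
    refine ⟨Q', isCentric_of_isConj hP' (hf'.isConj le_rfl hQ'), hfi.unique ?_⟩
    exact h.im_preimg hPS' ((hf'.im_le_S le_rfl hQ').trans h.TS') (h.gen_mor hf).1 hQ' hfr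
  · rintro _ ⟨P', hP', rfl⟩
    obtain ⟨Q', hPQ, hfn⟩ := exists_fullyNormalized E hP'.1
    obtain ⟨χ, hχ, hχi, -⟩ := h.exists_chi hfn hPQ
    have hQ := isCentric_of_isConj hP' hPQ
    exact ⟨preimg θ Q', (h.mor_iff.2 hχ).isConj (le_normalizerIn (preimg_mono hP'.1)) hχi,
      h.fullyAutomized_lift hQ hfn, h.receptive_lift hQ hfn⟩
  · intro E' hE'
    suffices key : ∀ {P : Subgroup Ω} {f : Ω → Ω}, Gen p F θ E P f → Mor E' P f by
      rintro P φ ⟨f, hf, e⟩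
      obtain ⟨ψ, hψ, hψe⟩ := key hf
      exact restrict_mem_of_eq hψ le_rfl fun x => (e x).trans (hψe x).symm
    intro P f hf
    induction hf with
    | conj hP hr => exact Mor.conj_mor hP hr
    | @gen P W' α f hW hα hc hPW he =>
      obtain ⟨φ, hφ, hφe⟩ := h.mor_iff.2 (Gen.gen hW hα hc le_rfl he)
      exact Mor.mono ⟨φ, hE' _ ⟨W', hW, rfl⟩ hφ, hφe⟩ hPW
    | comp _ hm _ ih1 ih2 => exact ih1.comp ih2 hm
    | congr _ e ih => exact ih.congr e
  · intro P hPc hPH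
    have hPR : P ≤ preimg θ T' := hPc.1
    have hPS := hPR.trans hRS
    have hZP : Z ≤ P := fun z hz => hPc.2 P (isConj_refl hPR)
      (mem_centralizerIn.2 ⟨h.Z_le_R hz, fun x hx => h.commute_Z hz (hPS hx)⟩)
    have hPeq : preimg θ (img θ P) = P := h.preimg_img' hPS hZP
    have hPT : img θ P ≤ T' := by
      intro y hy
      obtain ⟨x, hx, rfl⟩ := (mem_img_q hPS).1 hy
      exact (mem_preimg_q.1 (hPR hx)).2
    obtain ⟨Q', hPQ, hne⟩ : ∃ Q', E.IsConj (img θ P) Q' ∧ ¬ centralizerIn T' Q' ≤ Q' := by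
      by_contra hcon
      push Not at hcon
      exact hPH ⟨img θ P, ⟨hPT, hcon⟩, hPeq.symm⟩
    have hQT := IsConj.le_right hPQ
    obtain ⟨t, htC, htQ⟩ := SetLike.not_le_iff_exists.1 hne
    obtain ⟨f', hf', hfi'⟩ := isConj_iff_mor.1 hPQ
    obtain ⟨f, hf, hfr⟩ := h.exists_gen_lift hf'
    have hfi := h.im_preimg (hPT.trans h.TS') (hQT.trans h.TS') (h.gen_mor hf).1 hfi' hfr
    have hconj : h.liftSystem.IsConj P (preimg θ Q') :=
      (h.mor_iff.2 hf).isConj hPeq.ge (hPeq ▸ hfi)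
    refine ⟨preimg θ Q', hconj, fun hle => ?_⟩
    have hQR : preimg θ Q' ≤ preimg θ T' := preimg_mono hQT
    haveI : Finite (preimg θ Q') := finite_of_le (preimg_le Q')
    haveI : Finite (MulAut (preimg θ Q')) := finite_mulAut
    obtain ⟨r, hr, hrt⟩ := h.exists_lift_normalizer hQT
      ⟨htC.1, centralizer_le_normalizer' Q' htC.2⟩
    let c : MulAut (preimg θ Q') := conjAut (preimg θ T') (preimg θ Q') ⟨r, hr⟩
    have hc : c ∈ autInducedBy (preimg θ T') (preimg θ Q') :=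
      mem_autInducedBy.2 ⟨r, hr.1, fun _ => rfl⟩
    have hcF : c ∈ h.liftSystem.autGroup (preimg θ Q') := autInducedBy_le_autGroup hQR hc
    have hsub : h.liftSystem.autGroup (preimg θ Q') ≤ F.autGroup (preimg θ Q') :=
      autGroup_mono' h.liftSystem_sub _
    let N : Subgroup (h.liftSystem.autGroup (preimg θ Q')) :=
      (kerA F θ (preimg θ Q')).subgroupOf _
    have hNn : N.Normal := ⟨fun k hk g => h.kerA_normal (preimg_le Q') (hsub g.2) hk⟩
    have hNp : IsPGroup p N := (h.kerA_isPGroup (preimg_le Q')).comap_of_injective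
      (h.liftSystem.autGroup (preimg θ Q')).subtype Subtype.val_injective
    have hck : (⟨c, hcF⟩ : h.liftSystem.autGroup (preimg θ Q')) ∈ N := by
      refine ⟨hsub hcF, fun x => ?_⟩
      show q θ (r * (x : Ω) * r⁻¹) = q θ (x : Ω)
      rw [(h.induced_rel hQT hr).2 _ x.2, hrt, ← htC.2 _ (mem_preimg_q.1 x.2).2, mul_inv_cancel_right]
    have hcin := hle ⟨hc, ⟨_, CfsgLib.Solvable.le_pCore p hNn hNp hck, rfl⟩⟩
    have hQc : h.liftSystem.IsCentric (preimg θ Q') := isCentric_of_isConj hPc hconj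
    have hrQ := (inn_mem_iff hQc hr.1 fun x => rfl).1 hcin
    exact htQ (hrt ▸ (mem_preimg_q.1 hrQ).2)

end Setup

end CfsgLib.CentLift
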