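import Cfsg.Agent.Fusion.CentralLift.Gen

/-!
Generated lifts are unique up to inner automorphisms.
-/

set_option autoImplicit false
set_option linter.style.haveILetI false
set_option linter.unusedSectionVars false

open Cfsg Cfsg.FusionSystem CfsgLib.Fusion CfsgLib.FocCent

namespace CfsgLib.CentLift

variable {Ω : Type*} [Group Ω] {S Z : Subgroup Ω} {Ω' : Type*} [Group Ω'] {S' T' : Subgroup Ω'}
  {θ : S →* Ω'} {F : FusionSystem S} {Fb : FusionSystem S'} {E : FusionSystem T'} {p : ℕ}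

/-- Generated maps on `preimg θ P'` inducing the identity are inner. -/
def Uniq (p : ℕ) (F : FusionSystem S) (θ : S →* Ω') (E : FusionSystem T') (P' : Subgroup Ω') :
    Prop :=
  ∀ f : Ω → Ω, Gen p F θ E (preimg θ P') f → (∀ x ∈ preimg θ P', q θ (f x) = q θ x) →
    ∃ u ∈ preimg θ P', ∀ x ∈ preimg θ P', f x = u * x * u⁻¹

namespace Setup

variable [Finite S] [Fact p.Prime] (h : Setup p F Z θ Fb E)
include h

theorem le_of_preimg_le {U V : Subgroup Ω'} (hU : U ≤ S') (hle : preimg θ U ≤ preimg θ V) :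
    U ≤ V := fun y hy => by
  obtain ⟨x, hx, rfl⟩ := h.surj (hU hy)
  exact (mem_preimg_q.1 (hle (mem_preimg_q.2 ⟨hx, hy⟩))).2

/-- Generated maps on `R` are products of generators on `R`. -/
theorem top_inB {P : Subgroup Ω} {f : Ω → Ω} (hf : Gen p F θ E P f) (hP : P = preimg θ T') :
    InB p F θ E T' f := by
  induction hf with
  | conj _ hr => exact inB_conj ⟨hr, Subgroup.le_normalizer hr⟩
  | @gen P W' α f hW hα hc hPW he =>
    have : W' = T' := le_antisymm hW.1 (h.le_of_preimg_le h.TS' (hP ▸ hPW))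
    subst this
    exact ⟨α, Subgroup.subset_closure (Or.inr ⟨hα, hc⟩), he⟩
  | @comp P Q f g hf hm hg ih1 ih2 =>
    have hQ : Q = preimg θ T' := by
      obtain ⟨V, hV⟩ := (h.gen_mor hf).1.exists_im le_rfl
      have hVQ : V ≤ Q := fun y hy => by
        obtain ⟨x, hx, rfl⟩ := hV.surj hy
        exact hm x hx
      have hQR := (h.gen_mor hg).2.1
      exact eq_of_le_of_card_le (preimg_le T') hQR ((hP ▸ (h.gen_mor hf).1.card_im le_rfl hV).ge.trans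
        (card_le_of_le (hQR.trans (preimg_le T')) hVQ))
    exact (ih1 hP).comp (ih2 hQ)
  | @congr P f g hf e ih => exact (ih hP).congr fun x hx => e x (hP ▸ hx)

/-- A generated map on a larger subgroup stabilizing `Q` is a product of generators on `Q`. -/
theorem extension_inB {Q' : Subgroup Ω'} (hQ : E.IsCentric Q') (hfn : E.IsFullyNormalized Q')
    (huniq : ∀ U', E.IsCentric U' → Nat.card Q' < Nat.card U' → Uniq p F θ E U')
    {U : Subgroup Ω} {g : Ω → Ω} (hg : Gen p F θ E U g) (hQU : preimg θ Q' ≤ U)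
    (hUN : U ≤ normalizerIn (preimg θ T') (preimg θ Q'))
    (hi : Im g (preimg θ Q') (preimg θ Q')) (hlt : preimg θ Q' < U ∨ Q' = T') :
    InB p F θ E Q' g := by
  haveI := h.finT'
  have hUR : U ≤ preimg θ T' := hUN.trans inf_le_left
  rcases hlt with hlt | rfl
  swap
  · exact h.top_inB hg (le_antisymm hUR hQU)
  have hQT := hQ.1
  have hQS' : Q' ≤ S' := hQT.trans h.TS'
  have hUS := hUR.trans (preimg_le T')
  set U' := img θ U with hU'def
  have hUeq : preimg θ U' = U := h.preimg_img' hUS ((h.Z_le_preimg Q').trans hQU)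
  have hU'S : U' ≤ S' := h.img_le U
  have hQU' : Q' ≤ U' := h.le_of_preimg_le hQS' (hUeq.symm ▸ hQU)
  have hU'N : U' ≤ normalizerIn T' Q' :=
    h.le_of_preimg_le hU'S (by rw [hUeq, h.normalizer_R hQT]; exact hUN)
  have hU'c : E.IsCentric U' := isCentric_mono hQ hQU' (hU'N.trans (normalizerIn_le_S _))
  have hcard : Nat.card Q' < Nat.card U' := by
    refine lt_of_not_ge fun hle => hlt.ne ?_
    haveI := h.finS'
    rw [← hUeq, eq_of_le_of_card_le hU'S hQU' hle]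
  obtain ⟨g', hg', hgr⟩ := h.gen_rel hg
  have hi' : Im g' Q' Q' := by
    have := h.im_img (preimg_le Q') (preimg_le Q') hi (hgr.mono hQU)
    rwa [h.img_preimg' hQS'] at this
  -- Alperin's theorem in the normalizer system
  let N := normSystem E Q' hQT
  have hN : N.IsSaturated p :=
    normalizerSystem_saturated p h.pT' h.nml.1.1 hfn (normSystem_spec E Q' hQT)
  have hQn : N.IsNormal Q' := isNormal_normalizerSystem hQT (normSystem_spec E Q' hQT)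
  haveI : Finite (normalizerIn T' Q') := finite_of_le (normalizerIn_le_S Q')
  have hNp : IsPGroup p (normalizerIn T' Q') := isPGroup_of_le h.pT' (normalizerIn_le_S Q')
  let D : FusionSystem (normalizerIn T' Q') :=
    { Hom := fun X => {φ | φ ∈ N.Hom X ∧ ∃ (f₁ : Ω' → Ω') (g₁ : Ω → Ω), Mor E (X ⊔ Q') f₁ ∧
        (∀ x : X, f₁ x = φ x) ∧ Im f₁ Q' Q' ∧ Gen p F θ E (preimg θ (X ⊔ Q')) g₁ ∧
        Rel θ (preimg θ (X ⊔ Q')) g₁ f₁ ∧ InB p F θ E Q' g₁}
      le_of_mem := fun hφ => N.le_of_mem hφ.1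
      injective_of_mem := fun hφ => N.injective_of_mem hφ.1
      conj_mem := fun {X t} hX ht => by
        obtain ⟨r, hr, rfl⟩ := h.exists_lift_normalizer hQT ht
        have hXT : X ⊔ Q' ≤ T' := sup_le (hX.trans (normalizerIn_le_S _)) hQT
        refine ⟨N.conj_mem hX ht, _, _, Mor.conj_mor hXT ht.1, fun x => rfl, fun y => ?_,
          Gen.conj (preimg_mono hXT) hr.1,
          fun x hx => q_conj (preimg_le T' hr.1) (preimg_le _ hx), inB_conj hr⟩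
        constructor
        · intro hy
          exact ⟨_, (Subgroup.mem_normalizer_iff''.1 ht.2 y).1 hy, by group⟩
        · rintro ⟨x, hx, rfl⟩
          exact (Subgroup.mem_normalizer_iff.1 ht.2 x).1 hx
      comp_mem := fun {X Y φ ψ} hφ hψ hm => by
        obtain ⟨hφ, f₁, g₁, hf₁, hf₁e, hf₁i, hg₁, hg₁r, hg₁B⟩ := hφ
        obtain ⟨hψ, f₂, g₂, hf₂, hf₂e, hf₂i, hg₂, hg₂r, hg₂B⟩ := hψ
        have hfm : ∀ y ∈ X ⊔ Q', f₁ y ∈ Y ⊔ Q' := by
          obtain ⟨φ₁, -, hφ₁⟩ := hf₁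
          have hr : φ₁.range ≤ Y ⊔ Q' := by
            rw [range_eq_sup φ₁]
            refine sup_le_sup ?_ ?_
            · rintro _ ⟨x, hx, rfl⟩
              exact Set.mem_of_eq_of_mem ((hφ₁ x).trans (hf₁e ⟨x, hx⟩)) (hm _)
            · rintro _ ⟨x, hx, rfl⟩
              exact Set.mem_of_eq_of_mem (hφ₁ x) (hf₁i.mem hx)
          intro y hy
          rw [← hφ₁ ⟨y, hy⟩]
          exact hr ⟨_, rfl⟩
        have hgm : ∀ x ∈ preimg θ (X ⊔ Q'), g₁ x ∈ preimg θ (Y ⊔ Q') := fun x hx =>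
          mem_preimg_q.2 ⟨(h.gen_mor hg₁).1.mem_S hx,
            (hg₁r x hx).symm ▸ hfm _ (mem_preimg_q.1 hx).2⟩
        refine ⟨N.comp_mem hφ hψ hm, f₂ ∘ f₁, g₂ ∘ g₁, hf₁.comp hf₂ hfm, fun x => ?_,
          hf₁i.comp hf₂i, Gen.comp hg₁ hgm hg₂, hg₁r.comp hg₂r hgm, hg₁B.comp hg₂B⟩
        show f₂ (f₁ x) = ψ ⟨φ x, hm x⟩
        rw [hf₁e x]
        exact hf₂e ⟨φ x, hm x⟩
      inv_mem := fun {X φ} hφ => by
        obtain ⟨hφ, f₁, g₁, hf₁, hf₁e, hf₁i, hg₁, hg₁r, hg₁B⟩ := hφ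
        obtain ⟨ψ, hψ, hψe⟩ := N.inv_mem hφ
        have hXS : X ⊔ Q' ≤ S' := hf₁.le_S.trans h.TS'
        obtain ⟨V, hV⟩ := hf₁.exists_im le_rfl
        have hVS : V ≤ S' := (hf₁.im_le_S le_rfl hV).trans h.TS'
        have hV' := h.im_preimg hXS hVS (h.gen_mor hg₁).1 hV hg₁r
        obtain ⟨f₂, hf₂, -, hf₂e, -⟩ := hf₁.exists_inv hV
        obtain ⟨g₂, hg₂, -, hg₂e⟩ := h.gen_inv hg₁ hV'
        have hle : φ.range ⊔ Q' ≤ V := by
          refine sup_le ?_ fun y hy => ?_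
          · rintro _ ⟨x, rfl⟩
            rw [← hf₁e x]
            exact hV.mem (Subgroup.mem_sup_left x.2)
          · obtain ⟨x, hx, rfl⟩ := hf₁i.surj hy
            exact hV.mem (Subgroup.mem_sup_right hx)
        refine ⟨ψ, ⟨hψ, f₂, g₂, hf₂.mono hle, ?_, fun y => ?_, hg₂.mono (preimg_mono hle),
          fun x hx => ?_, hg₁B.inv fun x hx => hg₂e x (preimg_mono le_sup_right hx)⟩, hψe⟩
        · rintro ⟨_, x, rfl⟩
          refine Eq.trans ?_ (hψe x).symm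
          show f₂ (φ x) = x
          rw [← hf₁e x]
          exact hf₂e _ (Subgroup.mem_sup_left x.2)
        · constructor
          · intro hy
            exact ⟨f₁ y, hf₁i.mem hy, hf₂e y (Subgroup.mem_sup_right hy)⟩
          · rintro ⟨x, hx, rfl⟩
            obtain ⟨w, hw, rfl⟩ := hf₁i.surj hx
            rw [hf₂e w (Subgroup.mem_sup_right hw)]
            exact hw
        · obtain ⟨w, hw, rfl⟩ := hV'.surj (preimg_mono hle hx)
          rw [hg₂e w hw, hg₁r w hw, hf₂e _ (mem_preimg_q.1 hw).2] }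
  have hall : N ≤ D := by
    refine alperin_saturated p hNp hN D fun X hX => ?_
    have hXN : X ≤ normalizerIn T' Q' := hX.elim (fun e => e.le) fun e => e.1.1
    have hQX : Q' ≤ X := hX.elim (fun e => e ▸ le_normalizerIn hQT) fun e => le_essential p hNp hQn e
    have hXT : X ≤ T' := hXN.trans (normalizerIn_le_S _)
    have hXc : E.IsCentric X := isCentric_mono hQ hQX hXT
    have hXn : N.IsFullyNormalized X :=
      hX.elim (fun e => by rw [e]; exact isFullyNormalized_S) fun e => e.2.1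
    obtain ⟨⟨-, R, hR⟩, -⟩ := good_of_fullyNormalized p hNp hN hXn
    intro a ha
    haveI : Finite X := finite_of_le hXT
    haveI : Finite (MulAut X) := finite_mulAut
    have hle : (⊤ : Subgroup (N.autGroup X)) ≤ (D.autGroup X).subgroupOf (N.autGroup X) := by
      refine le_of_sylow_coprime p R le_top (fun b hb => ?_) fun b _ hb => ?_
      · rw [hR] at hb
        exact autInducedBy_le_autGroup hXN hb
      have hbN := (autGroup_carrier hXN).1 b.2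
      obtain ⟨hbE, -, -, ψ, hψ, hψe, hψm⟩ := id hbN
      have hbE' : (b : MulAut X) ∈ E.autGroup X := (autGroup_carrier hXT).2 hbE
      obtain ⟨α, hα, hαc, hαr⟩ :=
        h.exists_coprime_lift hXT hbE' (by rwa [Subgroup.orderOf_coe])
      obtain ⟨g₁, hg₁, hg₁i, hg₁e⟩ := exists_mor_of_aut (preimg_le X) hα.1
      obtain ⟨f₁, hf₁, hf₁i, hf₁e⟩ := exists_mor_of_aut hXT hbE'
      have hrel : Rel θ (preimg θ X) g₁ f₁ := fun x hx => by
        rw [hg₁e ⟨x, hx⟩, hαr, extAut_of_mem _ (mem_preimg_q.1 hx).2, ← hf₁e]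
      have hf₁Q : Im f₁ Q' Q' := fun y => by
        rw [← (SetLike.ext_iff.1 hψm y : _)]
        constructor
        · rintro ⟨x, hx, rfl⟩
          exact ⟨x, hx, (hf₁e ⟨x, hQX hx⟩).trans ((hψe ⟨x, hQX hx⟩).symm.trans (apply_congr ψ rfl))⟩
        · rintro ⟨x, hx, rfl⟩
          exact ⟨⟨x, Subgroup.mem_sup_right hx⟩, hx,
            (apply_congr ψ rfl).trans ((hψe ⟨x, hQX hx⟩).trans (hf₁e ⟨x, hQX hx⟩).symm)⟩
      have hQXp : preimg θ Q' ≤ preimg θ X := preimg_mono hQX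
      have hg₁Q := h.im_preimg hQS' hQS' (hg₁.mono hQXp) hf₁Q (hrel.mono hQXp)
      obtain ⟨β, hβ, hβe⟩ := hg₁.exists_aut hQXp hg₁Q
      have hβp : β ∈ pullA F θ E (preimg θ Q') :=
        h.mem_pullA_of hQT hβ (hf₁.mono hQX) hf₁Q fun x => by
          rw [hβe]; exact hrel _ (hQXp x.2)
      have hag : Agree hQXp α β := fun x => ((hg₁e _).symm.trans (hβe x).symm)
      have hβc : (orderOf β).Coprime p := Nat.Coprime.coprime_dvd_left
        (orderOf_dvd_of_pow_eq_one ((hag.pow _).eq_one (pow_orderOf_eq_one α))) hαc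
      refine (autGroup_carrier hXN).2 ⟨hbN, f₁, g₁, hf₁.mono (sup_le le_rfl hQX),
        fun x => hf₁e x, hf₁Q, Gen.gen hXc hα hαc (preimg_mono (sup_le le_rfl hQX)) hg₁e,
        hrel.mono (preimg_mono (sup_le le_rfl hQX)),
        β, Subgroup.subset_closure (Or.inr ⟨hβp, hβc⟩), fun x => (hβe x).symm⟩
    exact hle (Subgroup.mem_top ⟨a, ha⟩)
  obtain ⟨φ', hφ', hφ'e⟩ := hg'
  have hφN : φ' ∈ N.Hom U' := by
    refine ⟨hφ', hU'N, fun x => ?_, φ'.comp (Subgroup.inclusion (sup_le le_rfl hQU')),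
      restrict_mem hφ' _, fun x => rfl, ?_⟩
    · rw [hφ'e]
      exact Mor.mem_normalizerIn ⟨φ', hφ', hφ'e⟩ hQU' hi' x.2 (hU'N x.2).2
    · ext y
      rw [hi' y]
      constructor
      · rintro ⟨x, hx, rfl⟩
        exact ⟨x, hx, (hφ'e (Subgroup.inclusion (sup_le le_rfl hQU') x)).symm⟩
      · rintro ⟨x, hx, rfl⟩
        exact ⟨⟨x, Subgroup.mem_sup_right hx⟩, hx, hφ'e _⟩
  obtain ⟨-, f₁, g₀, hf₁, hf₁e, -, hg₀, hg₀r, hg₀B⟩ := hall U' hφN
  have hg₀' := hg₀.mono (preimg_mono (le_sup_left : U' ≤ U' ⊔ Q'))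
  have hrel₀ : Rel θ (preimg θ U') g₀ g' := fun x hx => by
    rw [hg₀r x (preimg_mono le_sup_left hx), hf₁e ⟨_, (mem_preimg_q.1 hx).2⟩, hφ'e]
  have hgm : Mor F (preimg θ U') g := hUeq.symm ▸ (h.gen_mor hg).1
  have hgr' : Rel θ (preimg θ U') g g' := hUeq.symm ▸ hgr
  have hg'M : Mor E U' g' := ⟨φ', hφ', hφ'e⟩
  obtain ⟨V, hV⟩ := hg'M.exists_im le_rfl
  have hVS : V ≤ S' := (hg'M.im_le_S le_rfl hV).trans h.TS'
  have hV₀ := h.im_preimg hU'S hVS (h.gen_mor hg₀').1 hV hrel₀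
  have hVg := h.im_preimg hU'S hVS hgm hV hgr'
  obtain ⟨g₂, hg₂, hg₂i, hg₂e⟩ := h.gen_inv hg₀' hV₀
  obtain ⟨u, hu, hue⟩ := huniq U' hU'c hcard (g₂ ∘ g)
    (Gen.comp (hUeq.symm ▸ hg) (fun x hx => hVg.mem hx) hg₂) fun x hx => by
    have hy : g₂ (g x) ∈ preimg θ U' := hg₂i.mem (hVg.mem hx)
    refine hg'M.inj (mem_preimg_q.1 hy).2 (mem_preimg_q.1 hx).2 ?_
    obtain ⟨w, hw, hwe⟩ := hV₀.surj (hVg.mem hx)
    show g' (q θ (g₂ (g x))) = _
    rw [← hwe, hg₂e w hw, ← hrel₀ w hw, hwe, hgr' x hx]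
  have huN : u ∈ normalizerIn (preimg θ T') (preimg θ Q') := hUN (hUeq ▸ hu)
  refine ((inB_conj huN).comp hg₀B).congr fun x hx => ?_
  have hx' : x ∈ preimg θ U' := hUeq.symm ▸ hQU hx
  obtain ⟨w, hw, hwe⟩ := hV₀.surj (hVg.mem hx')
  show g x = g₀ (u * x * u⁻¹)
  rw [← hue x hx']
  show g x = g₀ (g₂ (g x))
  rw [← hwe, hg₂e w hw]

/-- Generated maps between conjugates of `Q`, moved to `Q`, are products of generators on `Q`. -/
theorem class_inB {Q' : Subgroup Ω'} (hQ : E.IsCentric Q') (hfn : E.IsFullyNormalized Q')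
    (huniq : ∀ U', E.IsCentric U' → Nat.card Q' < Nat.card U' → Uniq p F θ E U')
    {W : Subgroup Ω} {f : Ω → Ω} (hf : Gen p F θ E W f) :
    ∀ {P₁ P₂ : Subgroup Ω'}, E.IsConj P₁ Q' → E.IsConj P₂ Q' → preimg θ P₁ ≤ W →
      Im f (preimg θ P₁) (preimg θ P₂) → ∀ {χ₁ χ₂ : Ω → Ω},
      Gen p F θ E (normalizerIn (preimg θ T') (preimg θ P₁)) χ₁ →
      Im χ₁ (preimg θ P₁) (preimg θ Q') →
      (∀ x ∈ normalizerIn (preimg θ T') (preimg θ P₁),
        χ₁ x ∈ normalizerIn (preimg θ T') (preimg θ Q')) →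
      Gen p F θ E (normalizerIn (preimg θ T') (preimg θ P₂)) χ₂ →
      Im χ₂ (preimg θ P₂) (preimg θ Q') →
      (∀ x ∈ normalizerIn (preimg θ T') (preimg θ P₂),
        χ₂ x ∈ normalizerIn (preimg θ T') (preimg θ Q')) →
      ∃ γ, InB p F θ E Q' γ ∧ ∀ x ∈ preimg θ P₁, γ (χ₁ x) = χ₂ (f x) := by
  haveI := h.finT'
  haveI : Finite (preimg θ T') := finite_of_le (preimg_le T')
  -- maps defined on a larger subgroup of the normalizer
  have big : ∀ {P₁ P₂ : Subgroup Ω'}, E.IsConj P₁ Q' → E.IsConj P₂ Q' →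
      ∀ {U : Subgroup Ω} {f χ₁ χ₂ : Ω → Ω}, Gen p F θ E U f → preimg θ P₁ ≤ U →
      U ≤ normalizerIn (preimg θ T') (preimg θ P₁) → Im f (preimg θ P₁) (preimg θ P₂) →
      (preimg θ P₁ < U ∨ P₁ = T') →
      Gen p F θ E (normalizerIn (preimg θ T') (preimg θ P₁)) χ₁ →
      Im χ₁ (preimg θ P₁) (preimg θ Q') →
      (∀ x ∈ normalizerIn (preimg θ T') (preimg θ P₁),
        χ₁ x ∈ normalizerIn (preimg θ T') (preimg θ Q')) →
      Gen p F θ E (normalizerIn (preimg θ T') (preimg θ P₂)) χ₂ →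
      Im χ₂ (preimg θ P₂) (preimg θ Q') →
      (∀ x ∈ normalizerIn (preimg θ T') (preimg θ P₂),
        χ₂ x ∈ normalizerIn (preimg θ T') (preimg θ Q')) →
      ∃ γ, InB p F θ E Q' γ ∧ ∀ x ∈ preimg θ P₁, γ (χ₁ x) = χ₂ (f x) := by
    intro P₁ P₂ hc₁ hc₂ U f χ₁ χ₂ hf hPU hUN hfi hlt hχ₁ hχ₁i hχ₁N hχ₂ hχ₂i hχ₂N
    obtain ⟨V, hV⟩ := (h.gen_mor hχ₁).1.exists_im hUN
    have hχ₁U := hχ₁.mono hUN
    obtain ⟨e, he, hei, hee⟩ := h.gen_inv hχ₁U hV
    have hQV : preimg θ Q' ≤ V := fun y hy => by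
      obtain ⟨x, hx, rfl⟩ := hχ₁i.surj hy
      exact hV.mem (hPU hx)
    have hfm : ∀ x ∈ U, f x ∈ normalizerIn (preimg θ T') (preimg θ P₂) := fun x hx =>
      ⟨(h.gen_mor hf).2.2 x hx, ((h.gen_mor hf).1.mem_normalizerIn hPU hfi hx (hUN hx).2).2⟩
    have hg : Gen p F θ E V (χ₂ ∘ f ∘ e) :=
      Gen.comp (Gen.comp he (fun y hy => hei.mem hy) hf) (fun y hy => hfm _ (hei.mem hy)) hχ₂
    have hei' : Im e (preimg θ Q') (preimg θ P₁) := fun y => by
      constructor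
      · intro hy
        exact ⟨χ₁ y, hχ₁i.mem hy, hee y (hPU hy)⟩
      · rintro ⟨x, hx, rfl⟩
        obtain ⟨w, hw, rfl⟩ := hχ₁i.surj hx
        rw [hee w (hPU hw)]
        exact hw
    have hB := h.extension_inB hQ hfn huniq hg hQV (fun y hy => by
        obtain ⟨x, hx, rfl⟩ := hV.surj hy
        exact hχ₁N x (hUN hx)) ((hei'.comp hfi).comp hχ₂i) (hlt.imp (fun hlt => by
        refine lt_of_le_of_ne hQV fun heq => hlt.ne ?_
        refine eq_of_le_of_card_le (h.gen_mor hf).1.le_S hPU ?_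
        rw [← (h.gen_mor hχ₁U).1.card_im le_rfl hV, ← heq,
          (h.gen_mor hχ₁U).1.card_im hPU hχ₁i]) fun e1 => by
        subst e1
        exact eq_of_le_of_card_le le_rfl hQ.1 (IsConj.card_eq hc₁).ge)
    exact ⟨_, hB, fun x hx => show χ₂ (f (e (χ₁ x))) = _ by rw [hee x (hPU hx)]⟩
  induction hf with
  | @conj W r hW hr =>
    intro P₁ P₂ hc₁ hc₂ hP hfi χ₁ χ₂ hχ₁ hχ₁i hχ₁N hχ₂ hχ₂i hχ₂N
    refine big hc₁ hc₂ (Gen.conj inf_le_left hr) (le_normalizerIn (hP.trans hW)) le_rfl hfi ?_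
      hχ₁ hχ₁i hχ₁N hχ₂ hχ₂i hχ₂N
    exact (or_iff_not_imp_right.2 fun hne =>
      lt_normalizerIn p (isPGroup_of_le h.hS (preimg_le T')) le_rfl (lt_of_le_of_ne
        (preimg_mono (IsConj.le_left hc₁)) fun e => hne (le_antisymm (IsConj.le_left hc₁)
          (h.le_of_preimg_le h.TS' e.ge))))
  | @gen W W' α f hW hα hc hWW he =>
    intro P₁ P₂ hc₁ hc₂ hP hfi χ₁ χ₂ hχ₁ hχ₁i hχ₁N hχ₂ hχ₂i hχ₂N
    have hPW : preimg θ P₁ ≤ preimg θ W' := hP.trans hWW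
    rcases hPW.lt_or_eq with hlt | heq
    · have hlt' : preimg θ P₁ < normalizerIn (preimg θ W') (preimg θ P₁) :=
        lt_normalizerIn p (isPGroup_of_le h.hS (preimg_le T')) (preimg_mono hW.1) hlt
      refine big hc₁ hc₂ (Gen.gen hW hα hc inf_le_left he) hlt'.le
        (inf_le_inf_right _ (preimg_mono hW.1)) hfi (Or.inl hlt') hχ₁ hχ₁i hχ₁N hχ₂ hχ₂i hχ₂N
    have e : P₁ = W' := le_antisymm
      (h.le_of_preimg_le ((IsConj.le_left hc₁).trans h.TS') heq.le)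
      (h.le_of_preimg_le (hW.1.trans h.TS') heq.ge)
    subst e
    -- `P₂ = P₁`
    obtain ⟨fα, hfα, hfαi, hfαe⟩ := exists_mor_of_aut (preimg_le P₁) hα.1
    have hfαf : ∀ x ∈ preimg θ P₁, f x = fα x := fun x hx =>
      (he ⟨x, hx⟩).trans (hfαe ⟨x, hx⟩).symm
    have hP₂ : preimg θ P₂ = preimg θ P₁ := hfi.unique (hfαi.congr hfαf)
    have hsame := big hc₁ hc₂ (Gen.conj (r := 1) inf_le_left (one_mem _))
      (le_normalizerIn (preimg_mono hW.1)) le_rfl (by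
        intro y
        rw [hP₂]
        simpa using (im_id (preimg θ P₁)) y) (or_iff_not_imp_right.2 fun hne =>
      lt_normalizerIn p (isPGroup_of_le h.hS (preimg_le T')) le_rfl (lt_of_le_of_ne
        (preimg_mono hW.1) fun e => hne (le_antisymm hW.1 (h.le_of_preimg_le h.TS' e.ge))))
      hχ₁ hχ₁i hχ₁N hχ₂ hχ₂i hχ₂N
    obtain ⟨δ, hδ, hδe⟩ := hsame
    -- transport the generator
    have hPN : preimg θ P₁ ≤ normalizerIn (preimg θ T') (preimg θ P₁) :=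
      le_normalizerIn (preimg_mono hW.1)
    obtain ⟨e, he', hemap⟩ := (h.gen_mor hχ₁).1.exists_equiv hPN hχ₁i
    obtain ⟨c, hc', hcr⟩ := h.gen_rel hχ₁
    have hPS' : P₁ ≤ S' := hW.1.trans h.TS'
    have hQS' : Q' ≤ S' := hQ.1.trans h.TS'
    have hci : Im c P₁ Q' := by
      have := h.im_img (preimg_le P₁) (preimg_le Q') hχ₁i (hcr.mono hPN)
      rwa [h.img_preimg' hPS', h.img_preimg' hQS'] at this
    have hcm : Mor E P₁ c := by
      exact hc'.mono ((h.img_preimg' hPS').ge.trans (Subgroup.map_mono fun x hx => hPN hx))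
    obtain ⟨d, hd, hdi, hdc, -⟩ := hcm.exists_inv hci
    obtain ⟨a', ha', hae⟩ := h.pullA_exists hW.1 hα
    obtain ⟨ua, hua, huai, huae⟩ := exists_mor_of_aut hW.1 ha'
    have hγp : MulAut.congr e α ∈ pullA F θ E (preimg θ Q') := by
      refine h.mem_pullA_of hQ.1 (hemap.le ⟨α, hα.1, rfl⟩)
        ((hd.comp hua fun y hy => hdi.mem hy).comp hcm fun y hy => huai.mem (hdi.mem hy))
        ((hdi.comp huai).comp hci) fun x => ?_
      obtain ⟨w, rfl⟩ := e.surjective x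
      simp only [MulAut.congr_apply, MulEquiv.trans_apply, MulEquiv.symm_apply_apply]
      rw [he', he', hcr _ (hPN (α w).2), hae, hcr _ (hPN w.2)]
      show c (extAut a' (q θ (w : Ω))) = c (ua (d (c (q θ (w : Ω)))))
      rw [hdc _ (mem_preimg_q.1 w.2).2, extAut_of_mem _ (mem_preimg_q.1 w.2).2, ← huae]
    have hγc : (orderOf (MulAut.congr e α)).Coprime p := by rwa [MulEquiv.orderOf_eq]
    obtain ⟨γ, hγm, -, hγe⟩ := exists_mor_of_aut (preimg_le Q') hγp.1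
    refine ⟨δ ∘ γ, InB.comp ⟨_, Subgroup.subset_closure (Or.inr ⟨hγp, hγc⟩), hγe⟩ hδ,
      fun x hx => ?_⟩
    have e1 : γ (χ₁ x) = χ₁ (f x) := by
      rw [← he' ⟨x, hx⟩, hγe, he ⟨x, hx⟩, ← he' (α ⟨x, hx⟩)]
      simp [MulAut.congr_apply]
    show δ (γ (χ₁ x)) = χ₂ (f x)
    rw [e1, hδe _ ((hfαf x hx).symm ▸ hfαi.mem hx)]
    simp
  | @comp W V f g hf hm hg ih1 ih2 =>
    intro P₁ P₂ hc₁ hc₂ hP hfi χ₁ χ₂ hχ₁ hχ₁i hχ₁N hχ₂ hχ₂i hχ₂N
    obtain ⟨f', hf', hfr⟩ := h.gen_rel hf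
    have hP₁T := IsConj.le_left hc₁
    have hP₁S : P₁ ≤ S' := hP₁T.trans h.TS'
    have hP₁W : P₁ ≤ img θ W := by
      rw [← h.img_preimg' hP₁S]
      exact Subgroup.map_mono fun x hx => hP hx
    obtain ⟨P₃, hP₃⟩ := hf'.exists_im hP₁W
    have hc13 : E.IsConj P₁ P₃ := hf'.isConj hP₁W hP₃
    have hc₃ : E.IsConj P₃ Q' := isConj_trans (isConj_symm hc13) hc₁
    have hfi₃ := h.im_preimg hP₁S ((IsConj.le_left hc₃).trans h.TS') ((h.gen_mor hf).1.mono hP) hP₃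
      (hfr.mono hP)
    have hP₃V : preimg θ P₃ ≤ V := fun y hy => by
      obtain ⟨x, hx, rfl⟩ := hfi₃.surj hy
      exact hm x (hP hx)
    have hgi : Im g (preimg θ P₃) (preimg θ P₂) := fun y => by
      rw [hfi y]
      constructor
      · rintro ⟨x, hx, rfl⟩
        exact ⟨f x, hfi₃.mem hx, rfl⟩
      · rintro ⟨x, hx, rfl⟩
        obtain ⟨w, hw, rfl⟩ := hfi₃.surj hx
        exact ⟨w, hw, rfl⟩
    obtain ⟨χ₃, hχ₃, hχ₃i, hχ₃N⟩ := h.exists_chi hfn hc₃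
    obtain ⟨γ₁, hγ₁, hγ₁e⟩ := ih1 hc₁ hc₃ hP hfi₃ hχ₁ hχ₁i hχ₁N hχ₃ hχ₃i hχ₃N
    obtain ⟨γ₂, hγ₂, hγ₂e⟩ := ih2 hc₃ hc₂ hP₃V hgi hχ₃ hχ₃i hχ₃N hχ₂ hχ₂i hχ₂N
    refine ⟨γ₂ ∘ γ₁, hγ₁.comp hγ₂, fun x hx => ?_⟩
    show γ₂ (γ₁ (χ₁ x)) = χ₂ (g (f x))
    rw [hγ₁e x hx, hγ₂e _ (hfi₃.mem hx)]
  | @congr W f g hf e ih =>
    intro P₁ P₂ hc₁ hc₂ hP hfi χ₁ χ₂ hχ₁ hχ₁i hχ₁N hχ₂ hχ₂i hχ₂N
    obtain ⟨γ, hγ, hγe⟩ := ih hc₁ hc₂ hP (hfi.congr fun x hx => (e x (hP hx)).symm)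
      hχ₁ hχ₁i hχ₁N hχ₂ hχ₂i hχ₂N
    exact ⟨γ, hγ, fun x hx => by rw [hγe x hx, e x (hP hx)]⟩

/-- **Uniqueness**: generated maps inducing the identity on an `E`-centric quotient are inner. -/
theorem uniq {P' : Subgroup Ω'} (hP : E.IsCentric P') : Uniq p F θ E P' := by
  induction hn : Nat.card T' - Nat.card P' using Nat.strong_induction_on generalizing P' with
  | _ n IH =>
  subst hn
  haveI := h.finT'
  intro f hf hid
  obtain ⟨Q', hPQ, hfn⟩ := exists_fullyNormalized E hP.1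
  have hQ : E.IsCentric Q' := isCentric_of_isConj hP hPQ
  have huniq : ∀ U', E.IsCentric U' → Nat.card Q' < Nat.card U' → Uniq p F θ E U' := by
    intro U' hU hlt
    have := card_le_of_le le_rfl hU.1
    have := IsConj.card_eq hPQ
    exact IH _ (by omega) hU rfl
  obtain ⟨χ, hχ, hχi, hχN⟩ := h.exists_chi hfn hPQ
  have hPR : preimg θ P' ≤ preimg θ T' := preimg_mono hP.1
  have hPN : preimg θ P' ≤ normalizerIn (preimg θ T') (preimg θ P') := le_normalizerIn hPR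
  have hfi : Im f (preimg θ P') (preimg θ P') := by
    obtain ⟨V, hV⟩ := (h.gen_mor hf).1.exists_im le_rfl
    have hVP : V ≤ preimg θ P' := fun y hy => by
      obtain ⟨x, hx, rfl⟩ := hV.surj hy
      exact mem_preimg_q.2 ⟨(h.gen_mor hf).1.mem_S hx, (hid x hx).symm ▸ (mem_preimg_q.1 hx).2⟩
    rwa [eq_of_le_of_card_le (preimg_le P') hVP ((h.gen_mor hf).1.card_im le_rfl hV).ge] at hV
  obtain ⟨γ, ⟨β, hβ, hβe⟩, hγe⟩ :=
    h.class_inB hQ hfn huniq hf hPQ hPQ le_rfl hfi hχ hχi hχN hχ hχi hχN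
  have hβ1 := h.genB_le_pullA hQ.1 hβ
  have hβk : β ∈ kerA F θ (preimg θ Q') := by
    refine ⟨hβ1.1, fun y => ?_⟩
    obtain ⟨x, hx, hxe⟩ := hχi.surj y.2
    rw [← hβe y, ← hxe, hγe x hx]
    have hxS := preimg_le P' hx
    have hfx := hfi.mem hx
    have hz : x⁻¹ * f x ∈ Z := (h.q_eq hxS (preimg_le P' hfx)).1 (hid x hx).symm
    have hzP : x⁻¹ * f x ∈ preimg θ P' := mul_mem (inv_mem hx) hfx
    conv_lhs => rw [show f x = x * (x⁻¹ * f x) by group]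
    rw [(h.gen_mor hχ).1.map_mul (hPN hx) (hPN hzP), h.fixZ (h.gen_mor hχ).1 (hPN hzP) hz,
      q_mul ((h.gen_mor hχ).1.mem_S (hPN hx)) (h.ZS hz), (h.q_eq_one (h.ZS hz)).2 hz, mul_one]
  obtain ⟨v, hv⟩ := h.kernel_inner hQ hfn hβ hβk
  obtain ⟨u, hu, hue⟩ := hχi.surj v.2
  refine ⟨u, hu, fun x hx => ?_⟩
  refine (h.gen_mor hχ).1.inj (hPN (hfi.mem hx))
    (hPN (mul_mem (mul_mem hu hx) (inv_mem hu))) ?_
  rw [← hγe x hx, hβe ⟨χ x, hχi.mem hx⟩, ← hv, (h.gen_mor hχ).1.map_conj (hPN hu) (hPN hx), hue]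
  rfl

end Setup

end CfsgLib.CentLift
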