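import Cfsg.Agent.Fusion.CentralLift.Saturated

/-!
A normal subsystem of a central quotient lifts to a weakly normal subsystem.
-/

set_option autoImplicit false
set_option linter.style.haveILetI false
set_option linter.unusedSectionVars false

open Cfsg Cfsg.FusionSystem CfsgLib.Fusion CfsgLib.FocCent

namespace CfsgLib.CentLift

variable {Ω : Type*} [Group Ω] {S Z : Subgroup Ω} {Ω' : Type*} [Group Ω'] {S' T' : Subgroup Ω'}
  {θ : S →* Ω'} {F : FusionSystem S} {Fb : FusionSystem S'} {E : FusionSystem T'} {p : ℕ}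

/-- A map that is an automorphism of `R` after a generated map. -/
def Good (p : ℕ) (F : FusionSystem S) (θ : S →* Ω') (E : FusionSystem T') (P : Subgroup Ω)
    (f : Ω → Ω) : Prop :=
  ∃ α ∈ F.autGroup (preimg θ T'), ∃ g, Gen p F θ E P g ∧ ∀ x ∈ P, f x = extAut α (g x)

namespace Setup

variable [Finite S] [Fact p.Prime] (h : Setup p F Z θ Fb E)
include h

theorem stronglyClosed_R : F.StronglyClosed (preimg θ T') :=
  stronglyClosed_preimg h.stronglyClosed_Z h.fac p h.hS h.hF h.hTc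

theorem mor_R {P : Subgroup Ω} {f : Ω → Ω} (hP : P ≤ preimg θ T') (hf : Mor F P f) {x : Ω}
    (hx : x ∈ P) : f x ∈ preimg θ T' := by
  obtain ⟨φ, hφ, hφe⟩ := hf
  rw [← hφe ⟨x, hx⟩]
  exact h.stronglyClosed_R.2 P hP φ hφ ⟨x, hx⟩

/-- Transport of a generated map by an automorphism of `R`. -/
theorem gen_twist {α : MulAut (preimg θ T')} (hα : α ∈ F.autGroup (preimg θ T')) {P : Subgroup Ω}
    {g : Ω → Ω} (hg : Gen p F θ E P g) :
    ∀ {P' : Subgroup Ω}, Im (extAut α) P P' →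
      Gen p F θ E P' (fun y => extAut α (g (extAut α⁻¹ y))) := by
  haveI := h.finT'
  have hRS : preimg θ T' ≤ S := preimg_le T'
  have hA : Mor F (preimg θ T') (extAut α) := mor_extAut hRS hα
  induction hg with
  | @conj P r hP hr =>
    intro P' hi
    have hP' : P' ≤ preimg θ T' := fun y hy => by
      obtain ⟨x, hx, rfl⟩ := hi.surj hy
      exact extAut_mem α (hP hx)
    refine Gen.congr (Gen.conj hP' (extAut_mem α hr)) fun y hy => ?_
    show extAut α (r * extAut α⁻¹ y * r⁻¹) = _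
    rw [hA.map_conj hr (extAut_mem α⁻¹ (hP' hy)), extAut_apply_inv]
  | @gen P W' β f hW hβ hc hPW he =>
    intro P' hi
    have hWR : preimg θ W' ≤ preimg θ T' := preimg_mono hW.1
    have hAW : Mor F (preimg θ W') (extAut α) := hA.mono hWR
    obtain ⟨c, hc', hcr⟩ := h.induce hAW
    have hWS' : W' ≤ S' := hW.1.trans h.TS'
    rw [h.img_preimg' hWS'] at hc'
    obtain ⟨V', hV'⟩ := hc'.exists_im le_rfl
    have hVS' : V' ≤ S' := hc'.im_le_S le_rfl hV'
    have hVT : V' ≤ T' := fun y hy => by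
      obtain ⟨x, hx, rfl⟩ := hV'.surj hy
      exact mor_T h.inv hW.1 hc' hx
    have hVc : E.IsCentric V' := ⟨hVT, fun U hU => centralizer_le_of_isConj h.inv hW
      (isConj_trans (hc'.isConj le_rfl hV') (isConj_of_subsystem h.inv.1 hU))⟩
    have hAi := h.im_preimg hWS' hVS' hAW hV' hcr
    obtain ⟨e, he', hemap⟩ := hAW.exists_equiv le_rfl hAi
    obtain ⟨e', hee', -⟩ := hc'.exists_equiv le_rfl hV'
    obtain ⟨b, hb, hbe⟩ := h.pullA_exists hW.1 hβ
    have hb' : MulAut.congr e' b ∈ E.autGroup V' := autGroup_transfer h.inv hW.1 hc' hV' e' hee' hb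
    obtain ⟨u, hu, hui, hue⟩ := exists_mor_of_aut hVT hb'
    have hγp : MulAut.congr e β ∈ pullA F θ E (preimg θ V') := by
      refine h.mem_pullA_of hVT (hemap.le ⟨β, hβ.1, rfl⟩) hu hui fun x => ?_
      obtain ⟨w, rfl⟩ := e.surjective x
      simp only [MulAut.congr_apply, MulEquiv.trans_apply, MulEquiv.symm_apply_apply]
      rw [he', he', hcr _ (β w).2, hbe, hcr _ w.2,
        extAut_of_mem _ (mem_preimg_q.1 w.2).2, ← hee',
        ← hee' ⟨q θ (w : Ω), (mem_preimg_q.1 w.2).2⟩, hue]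
      simp [MulAut.congr_apply]
    have hγc : (orderOf (MulAut.congr e β)).Coprime p := by rwa [MulEquiv.orderOf_eq]
    refine Gen.gen hVc hγp hγc (fun y hy => ?_) fun x => ?_
    · obtain ⟨x, hx, rfl⟩ := hi.surj hy
      exact hAi.mem (hPW hx)
    · obtain ⟨w, rfl⟩ := e.surjective x
      simp only [MulAut.congr_apply, MulEquiv.trans_apply, MulEquiv.symm_apply_apply]
      rw [he', he', extAut_inv_apply, he]
  | @comp P Q f g hf hm hg ih1 ih2 =>
    intro P' hi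
    obtain ⟨Q'', hQ''⟩ := hA.exists_im (h.gen_mor hg).2.1
    refine Gen.congr (Gen.comp (ih1 hi) (fun y hy => ?_) (ih2 hQ'')) fun y hy => ?_
    · obtain ⟨x, hx, rfl⟩ := hi.surj hy
      show extAut α (f (extAut α⁻¹ (extAut α x))) ∈ Q''
      rw [extAut_inv_apply]
      exact hQ''.mem (hm x hx)
    · show extAut α (g (f (extAut α⁻¹ y))) =
        extAut α (g (extAut α⁻¹ (extAut α (f (extAut α⁻¹ y)))))
      rw [extAut_inv_apply]
  | @congr P f g hf e ih =>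
    intro P' hi
    refine Gen.congr (ih hi) fun y hy => ?_
    obtain ⟨x, hx, rfl⟩ := hi.surj hy
    show extAut α (g (extAut α⁻¹ (extAut α x))) = extAut α (f (extAut α⁻¹ (extAut α x)))
    rw [extAut_inv_apply, e x hx]

/-! ### The Frattini condition -/

theorem good_mor {P : Subgroup Ω} {f : Ω → Ω} (hf : Good p F θ E P f) : Mor F P f := by
  obtain ⟨α, hα, g, hg, hfe⟩ := hf
  exact ((h.gen_mor hg).1.comp (mor_extAut (preimg_le T') hα) fun x hx =>
    (h.gen_mor hg).2.2 x hx).congr hfe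

theorem good_gen {P : Subgroup Ω} {g : Ω → Ω} (hg : Gen p F θ E P g) : Good p F θ E P g :=
  ⟨1, one_mem _, g, hg, fun _ _ => (extAut_one _).symm⟩

theorem good_aut {α : MulAut (preimg θ T')} (hα : α ∈ F.autGroup (preimg θ T')) {P : Subgroup Ω}
    (hP : P ≤ preimg θ T') : Good p F θ E P (extAut α) :=
  ⟨α, hα, _, Gen.conj hP (one_mem _), fun x _ => by simp⟩

theorem good_congr {P : Subgroup Ω} {f g : Ω → Ω} (hf : Good p F θ E P f)
    (e : ∀ x ∈ P, g x = f x) : Good p F θ E P g := by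
  obtain ⟨α, hα, g', hg', hfe⟩ := hf
  exact ⟨α, hα, g', hg', fun x hx => (e x hx).trans (hfe x hx)⟩

theorem good_mono {P U : Subgroup Ω} {f : Ω → Ω} (hf : Good p F θ E P f) (hU : U ≤ P) :
    Good p F θ E U f := by
  obtain ⟨α, hα, g, hg, hfe⟩ := hf
  exact ⟨α, hα, g, hg.mono hU, fun x hx => hfe x (hU hx)⟩

theorem good_comp {P Q : Subgroup Ω} {f₁ f₂ : Ω → Ω} (h₁ : Good p F θ E P f₁)
    (h₂ : Good p F θ E Q f₂) (hm : ∀ x ∈ P, f₁ x ∈ Q) : Good p F θ E P (f₂ ∘ f₁) := by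
  obtain ⟨α₁, hα₁, g₁, hg₁, e₁⟩ := h₁
  obtain ⟨α₂, hα₂, g₂, hg₂, e₂⟩ := h₂
  obtain ⟨Q', hQ'⟩ := (mor_extAut (F := F) (preimg_le T') (Subgroup.inv_mem _ hα₁)).exists_im
    (h.gen_mor hg₂).2.1
  have ht := h.gen_twist (Subgroup.inv_mem _ hα₁) hg₂ hQ'
  refine ⟨α₂ * α₁, mul_mem hα₂ hα₁, _, Gen.comp hg₁ (fun x hx => ?_) ht, fun x hx => ?_⟩
  · rw [show g₁ x = extAut α₁⁻¹ (f₁ x) by rw [e₁ x hx, extAut_inv_apply]]
    exact hQ'.mem (hm x hx)
  · show f₂ (f₁ x) = extAut (α₂ * α₁) (extAut α₁⁻¹ (g₂ (extAut α₁⁻¹⁻¹ (g₁ x))))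
    rw [inv_inv, ← e₁ x hx, extAut_mul, extAut_apply_inv, ← e₂ _ (hm x hx)]

theorem good_inv {P Q : Subgroup Ω} {f g : Ω → Ω} (hf : Good p F θ E P f) (hi : Im f P Q)
    (hg : ∀ x ∈ P, g (f x) = x) : Good p F θ E Q g := by
  obtain ⟨α, hα, g₁, hg₁, e⟩ := hf
  have hQR : Q ≤ preimg θ T' := fun y hy => by
    obtain ⟨x, hx, rfl⟩ := hi.surj hy
    rw [e x hx]; exact extAut_mem α ((h.gen_mor hg₁).2.2 x hx)
  obtain ⟨U, hU⟩ := (h.gen_mor hg₁).1.exists_im le_rfl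
  obtain ⟨g₂, hg₂, -, hg₂e⟩ := h.gen_inv hg₁ hU
  refine h.good_congr (h.good_comp (h.good_aut (Subgroup.inv_mem _ hα) hQR) (h.good_gen hg₂)
    fun y hy => ?_) fun y hy => ?_
  · obtain ⟨x, hx, rfl⟩ := hi.surj hy
    rw [e x hx, extAut_inv_apply]
    exact hU.mem hx
  · obtain ⟨x, hx, rfl⟩ := hi.surj hy
    show g (f x) = g₂ (extAut α⁻¹ (f x))
    rw [hg x hx, e x hx, extAut_inv_apply, hg₂e x hx]

/-- The automorphisms of a fully normalized subgroup of `R` are good. -/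
theorem aut_good {Q : Subgroup Ω} (hZQ : Z ≤ Q) (hQR : Q ≤ preimg θ T') (hfn : F.IsFullyNormalized Q)
    (hIH : ∀ {U : Subgroup Ω} {f : Ω → Ω}, U ≤ preimg θ T' → Nat.card Q < Nat.card U →
      Mor F U f → Good p F θ E U f)
    {f : Ω → Ω} (hf : Mor F Q f) (hfi : Im f Q Q) : Good p F θ E Q f := by
  haveI := h.finT'
  haveI := h.finS'
  have hQS := hfn.1
  have hQeq : preimg θ (img θ Q) = Q := h.preimg_img' hQS hZQ
  have hQS' : img θ Q ≤ S' := h.img_le Q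
  have hQT : img θ Q ≤ T' := h.le_of_preimg_le hQS' (hQeq.symm ▸ hQR)
  have hfn' : Fb.IsFullyNormalized (img θ Q) :=
    (fullyNormalized_factor h.stronglyClosed_Z h.fac hQS').2 (hQeq.symm ▸ hfn)
  obtain ⟨f', hf', hfr⟩ := h.induce hf
  have hfi' : Im f' (img θ Q) (img θ Q) := h.im_img hQS hQS hfi hfr
  -- a good map on `Q` agreeing with `f` in the quotient gives `f`
  suffices hmain : ∃ g, Good p F θ E Q g ∧ Im g Q Q ∧ ∀ x ∈ Q, q θ (g x) = q θ (f x) by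
    obtain ⟨g, hg, hgi, hgq⟩ := hmain
    obtain ⟨a, ha, hae⟩ := (h.good_mor hg).exists_aut le_rfl hgi
    obtain ⟨b, hb, hbe⟩ := hf.exists_aut le_rfl hfi
    have hk : a⁻¹ * b ∈ kerA F θ Q := by
      refine ⟨mul_mem (Subgroup.inv_mem _ ha) hb, fun x => ?_⟩
      obtain ⟨g', hg', hgr⟩ := h.induce (h.good_mor hg)
      refine hg'.inj (q_mem_img hQS (SetLike.coe_mem _)) (q_mem_img hQS x.2) ?_
      rw [← hgr _ (SetLike.coe_mem _), ← hgr _ x.2, hgq _ x.2, ← hae, MulAut.mul_apply,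
        MulAut.apply_inv_self, hbe]
    obtain ⟨s, hs, hse, -⟩ := h.kerA_induced hQS hfn hk
    have hsR : ∀ x ∈ preimg θ T', s * x * s⁻¹ ∈ preimg θ T' := fun x hx =>
      (Subgroup.mem_normalizer_iff.1 (stronglyClosed_normal_in_S h.stronglyClosed_R hs.1) x).1 hx
    have hRS : preimg θ T' ≤ S := preimg_le T'
    let σ := conjAut S (preimg θ T') ⟨s, hs.1, stronglyClosed_normal_in_S h.stronglyClosed_R hs.1⟩
    have hσ : σ ∈ F.autGroup (preimg θ T') :=
      autInducedBy_le_autGroup hRS (mem_autInducedBy.2 ⟨s, hs.1, fun _ => rfl⟩)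
    have hσe : ∀ x ∈ Q, extAut σ x = s * x * s⁻¹ := fun x hx => extAut_of_mem σ (hQR hx)
    refine h.good_congr (h.good_comp (h.good_aut hσ hQR) hg fun x hx => ?_) fun x hx => ?_
    · rw [hσe x hx]
      exact (Subgroup.mem_normalizer_iff.1 hs.2 x).1 hx
    · show f x = g (extAut σ x)
      rw [hσe x hx, ← hse ⟨x, hx⟩, ← hae, ← hbe ⟨x, hx⟩, MulAut.mul_apply, MulAut.apply_inv_self]
  by_cases hc : E.IsCentric (img θ Q)
  · obtain ⟨a', ha', e0, he0, hfe⟩ := mor_frattini h.inv hQT hf'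
    obtain ⟨g₀, hg₀, hg₀r⟩ := h.exists_gen_lift he0
    rw [hQeq] at hg₀ hg₀r
    obtain ⟨g₁, hg₁, hg₁i, -⟩ := exists_mor_of_aut (h.TS') ha'
    have ha'M := mor_extAut h.TS' ha'
    obtain ⟨A, hA, hAr⟩ := h.lift ha'M
    have hAi : Im A (preimg θ T') (preimg θ T') := by
      refine h.im_preimg h.TS' h.TS' hA (fun y => ?_) hAr
      exact ⟨fun hy => ⟨extAut a'⁻¹ y, extAut_mem _ hy, extAut_apply_inv a' y⟩,
        fun ⟨x, hx, e⟩ => e ▸ extAut_mem a' hx⟩
    obtain ⟨α, hα, hαe⟩ := hA.exists_aut le_rfl hAi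
    have hg₀R : ∀ x ∈ Q, g₀ x ∈ preimg θ T' := (h.gen_mor hg₀).2.2
    have hgood : Good p F θ E Q fun x => extAut α (g₀ x) := ⟨α, hα, g₀, hg₀, fun _ _ => rfl⟩
    have hq : ∀ x ∈ Q, q θ (extAut α (g₀ x)) = q θ (f x) := fun x hx => by
      rw [extAut_of_mem _ (hg₀R x hx), hαe, hAr _ (hg₀R x hx), hg₀r x hx, hfr x hx,
        hfe _ (q_mem_img hQS hx)]
    refine ⟨_, hgood, ?_, hq⟩
    have hM := h.good_mor hgood
    obtain ⟨V, hV⟩ := hM.exists_im le_rfl
    have hVQ : V ≤ Q := fun y hy => by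
      obtain ⟨x, hx, rfl⟩ := hV.surj hy
      rw [← hQeq]
      exact mem_preimg_q.2 ⟨hM.mem_S hx, (hq x hx).symm ▸ q_mem_img hQS (hfi.mem hx)⟩
    rwa [eq_of_le_of_card_le hQS hVQ (hM.card_im le_rfl hV).ge] at hV
  -- a larger subgroup
  have hfnE := fullyNormalized_sub p h.pS' h.hFb h.hTc h.inv.1 hQT hfn'
  have hCQ : ¬ centralizerIn T' (img θ Q) ≤ img θ Q := fun hC =>
    hc (isCentric_of_fullyCentralized (fullyCentralized_of_fullyNormalized p h.pT' h.nml.1.1 hfnE) hC)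
  obtain ⟨-, hrec⟩ := good_of_fullyNormalized p h.pS' h.hFb hfn'
  obtain ⟨f'', hf'', hf''e⟩ := receptive_mor (N := centralizerIn T' (img θ Q)) hrec hf' hfi'
    fun c hc => by
      refine ⟨h.TS' hc.1, centralizer_le_normalizer' _ hc.2, 1, one_mem _, fun x hx => ?_⟩
      rw [← hc.2 x hx, mul_inv_cancel_right, one_mul, inv_one, mul_one]
  obtain ⟨g, hg, hgr⟩ := h.lift hf''
  have hVT : centralizerIn T' (img θ Q) ⊔ img θ Q ≤ T' := sup_le (centralizerIn_le_S _) hQT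
  have hQV : Q ≤ preimg θ (centralizerIn T' (img θ Q) ⊔ img θ Q) := by
    conv_lhs => rw [← hQeq]
    exact preimg_mono le_sup_right
  have hcard : Nat.card Q < Nat.card (preimg θ (centralizerIn T' (img θ Q) ⊔ img θ Q)) := by
    refine lt_of_not_ge fun hle => hCQ ?_
    have e := eq_of_le_of_card_le (preimg_le _) hQV hle
    have := h.le_of_preimg_le (hVT.trans h.TS') (e.ge.trans hQeq.ge)
    exact le_sup_left.trans this
  have hgood := h.good_mono (hIH (preimg_mono hVT) hcard hg) hQV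
  have hq : ∀ x ∈ Q, q θ (g x) = q θ (f x) := fun x hx => by
    rw [hgr x (hQV hx), hf''e _ (q_mem_img hQS hx), hfr x hx]
  refine ⟨g, hgood, ?_, hq⟩
  obtain ⟨V, hV⟩ := (hg.mono hQV).exists_im le_rfl
  have hVQ : V ≤ Q := fun y hy => by
    obtain ⟨x, hx, rfl⟩ := hV.surj hy
    rw [← hQeq]
    exact mem_preimg_q.2 ⟨hg.mem_S (hQV hx), (hq x hx).symm ▸ q_mem_img hQS (hfi.mem hx)⟩
  rwa [eq_of_le_of_card_le hQS hVQ ((hg.mono hQV).card_im le_rfl hV).ge] at hV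

/-- Every map between subgroups of `R` is good. -/
theorem good_of_mor {P : Subgroup Ω} {f : Ω → Ω} (hP : P ≤ preimg θ T') (hf : Mor F P f) :
    Good p F θ E P f := by
  induction hn : Nat.card (preimg θ T') - Nat.card P using Nat.strong_induction_on
    generalizing P f with
  | _ n IH =>
  subst hn
  have hRS : preimg θ T' ≤ S := preimg_le T'
  haveI : Finite (preimg θ T') := finite_of_le hRS
  have hbig : ∀ {U : Subgroup Ω} {g : Ω → Ω}, U ≤ preimg θ T' → Nat.card P < Nat.card U →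
      Mor F U g → Good p F θ E U g := fun {U g} hU hlt hg => by
    have := card_le_of_le le_rfl hU
    exact IH _ (by omega) hU hg rfl
  by_cases hZP : Z ≤ P
  swap
  · obtain ⟨g, hg, hge⟩ := h.extendZ hf
    have hlt : Nat.card P < Nat.card ↥(P ⊔ Z) := lt_of_not_ge fun hle =>
      hZP (le_sup_right.trans (eq_of_le_of_card_le hg.le_S le_sup_left hle).ge)
    exact h.good_congr (h.good_mono (hbig (sup_le hP h.Z_le_R) hlt hg) le_sup_left)
      fun x hx => (hge x hx).symm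
  rcases hP.eq_or_lt with rfl | hlt
  · obtain ⟨V, hV⟩ := hf.exists_im le_rfl
    have hVR : V ≤ preimg θ T' := fun y hy => by
      obtain ⟨x, hx, rfl⟩ := hV.surj hy
      exact h.mor_R le_rfl hf hx
    rw [eq_of_le_of_card_le hRS hVR (hf.card_im le_rfl hV).ge] at hV
    obtain ⟨α, hα, hαe⟩ := hf.exists_aut le_rfl hV
    exact h.good_congr (h.good_aut hα le_rfl) fun x hx => by
      rw [extAut_of_mem _ hx, hαe]
  have hPS := hP.trans hRS
  obtain ⟨Q, hPQ, hQn⟩ := exists_fullyNormalized F hPS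
  obtain ⟨g₁, g₂⟩ := good_of_fullyNormalized p h.hS h.hF hQn
  have hQR : Q ≤ preimg θ T' := by
    obtain ⟨c, hc, hci⟩ := isConj_iff_mor.1 hPQ
    intro y hy
    obtain ⟨x, hx, rfl⟩ := hci.surj hy
    exact h.mor_R hP hc hx
  -- good maps onto `Q` from the conjugates
  have chi : ∀ {P₁ : Subgroup Ω}, F.IsConj P₁ Q → P₁ ≤ preimg θ T' →
      ∃ χ, Good p F θ E P₁ χ ∧ Im χ P₁ Q := by
    intro P₁ hc hP₁
    obtain ⟨φ, hφ, -, hφm⟩ := exists_map_normalizer p h.hS g₁ g₂ hc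
    obtain ⟨u, hu, hue⟩ := Mor.of_mem hφ
    have hcard : Nat.card P₁ = Nat.card P := by
      rw [← IsConj.card_eq hc, IsConj.card_eq hPQ]
    have hne : P₁ < preimg θ T' := lt_of_le_of_ne hP₁ fun e => hlt.ne
      (eq_of_le_of_card_le hRS hlt.le (by rw [← hcard, e]))
    have hlt₁ := lt_normalizerIn p (isPGroup_of_le h.hS hRS) le_rfl hne
    have hsub : normalizerIn (preimg θ T') P₁ ≤ normalizerIn S P₁ := inf_le_inf_right _ hRS
    have hlt₂ : Nat.card P < Nat.card (normalizerIn (preimg θ T') P₁) := hcard ▸ lt_of_not_ge fun hle =>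
      hlt₁.ne (eq_of_le_of_card_le (normalizerIn_le_S _) hlt₁.le hle)
    exact ⟨u, h.good_mono (hbig (normalizerIn_le_S _) hlt₂ (hu.mono hsub)) hlt₁.le,
      hφm ▸ NormExt.mor_map (fun x => (hue x).symm) (le_normalizerIn (hP₁.trans hRS))⟩
  obtain ⟨V, hV⟩ := hf.exists_im le_rfl
  have hVR : V ≤ preimg θ T' := fun y hy => by
    obtain ⟨x, hx, rfl⟩ := hV.surj hy
    exact h.mor_R hP hf hx
  obtain ⟨χ₁, hχ₁, hχ₁i⟩ := chi hPQ hP
  obtain ⟨χ₂, hχ₂, hχ₂i⟩ :=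
    chi (isConj_trans (isConj_symm (hf.isConj le_rfl hV)) hPQ) hVR
  obtain ⟨e₁, he₁, he₁i, he₁e, -⟩ := (h.good_mor hχ₁).exists_inv hχ₁i
  obtain ⟨e₂, he₂, he₂i, he₂e, -⟩ := (h.good_mor hχ₂).exists_inv hχ₂i
  have hε : Mor F Q (χ₂ ∘ f ∘ e₁) :=
    (he₁.comp hf fun y hy => he₁i.mem hy).comp (h.good_mor hχ₂) fun y hy => hV.mem (he₁i.mem hy)
  have hεi : Im (χ₂ ∘ f ∘ e₁) Q Q := (he₁i.comp hV).comp hχ₂i
  have hεg : Good p F θ E Q (χ₂ ∘ f ∘ e₁) := h.aut_good (fun z hz => by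
      rw [← h.fixZ (h.good_mor hχ₁) (hZP hz) hz]; exact hχ₁i.mem (hZP hz)) hQR hQn
    (fun {U g} hU hlt' hg => hbig hU (IsConj.card_eq hPQ ▸ hlt') hg) hε hεi
  refine h.good_congr (h.good_comp (h.good_comp hχ₁ hεg fun x hx => hχ₁i.mem hx)
    (h.good_inv hχ₂ hχ₂i he₂e) fun x hx => hεi.mem (hχ₁i.mem hx)) fun x hx => ?_
  show f x = e₂ (χ₂ (f (e₁ (χ₁ x))))
  rw [he₁e x hx, he₂e _ (hV.mem hx)]

theorem liftSystem_invariant : h.liftSystem.IsInvariantIn F := by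
  have hRS : preimg θ T' ≤ S := preimg_le T'
  refine ⟨h.liftSystem_sub, h.stronglyClosed_R, fun P hP φ hφ α hα => ?_, fun P hP φ hφ => ?_⟩
  · obtain ⟨f, hf, hfe⟩ := hφ
    have hi : Im (extAut α) P ((P.subgroupOf (preimg θ T')).map
        ((preimg θ T').subtype.comp α.toMonoidHom)) :=
      NormExt.mor_map (fun x => (extAut_of_mem α x.2).symm) hP
    obtain ⟨χ, hχ, hχe⟩ := h.mor_iff.2 (h.gen_twist hα hf hi)
    refine ⟨χ, hχ, fun x hφx hαx => ?_⟩
    rw [hχe ⟨_, hαx⟩]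
    show extAut α (f (extAut α⁻¹ ((α ⟨x, hP x.2⟩ : preimg θ T') : Ω))) = _
    rw [← extAut_of_mem α (hP x.2), extAut_inv_apply, ← hfe x, extAut_of_mem]
  · obtain ⟨f, hf, hfe⟩ := Mor.of_mem hφ
    obtain ⟨α, hα, g, hg, he⟩ := h.good_of_mor hP hf
    obtain ⟨φ₀, hφ₀, hφ₀e⟩ := h.mor_iff.2 hg
    refine ⟨α, hα, φ₀, hφ₀, fun x hx => ?_⟩
    rw [← hfe x, he x x.2, ← extAut_of_mem α hx, hφ₀e]

theorem liftSystem_weaklyNormal : h.liftSystem.IsWeaklyNormalIn F p :=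
  ⟨h.liftSystem_saturated, h.hF, h.liftSystem_invariant⟩

end Setup

end CfsgLib.CentLift
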